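import Groth.Agent.HigherDirect.FiniteSec
import Groth.Agent.CohFinite.ProperSupport
import Groth.Agent.QCohLib.StalkRestrict

/-!
# Coherence of higher direct images of modules with proper support
-/

set_option autoImplicit false
set_option linter.style.haveILetI false
set_option backward.isDefEq.respectTransparency false
set_option backward.isDefEq.respectTransparency.types false
universe u

open CategoryTheory CategoryTheory.Limits AlgebraicGeometry Opposite TopologicalSpace

namespace Groth.Agent.HigherDirect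

open Groth.Agent.CohVanish Groth.Agent.CohFinite Groth.Agent.CechCmp

variable {X S : Scheme.{u}} (f : X ⟶ S)

/-- A subset of the image of a closed immersion which is proper over the base is proper over the base. -/
theorem isProperOver_of_subset_range {C : Set X} (hC : IsClosed C) {Z : Scheme.{u}} (i : Z ⟶ X)
    [IsClosedImmersion i] (hr : C ⊆ Set.range i) [IsProper (i ≫ f)] : ClSub.IsProperOver f C := by
  refine ⟨hC, ?_⟩
  let I := Scheme.IdealSheafData.vanishingIdeal (⟨C, hC⟩ : Closeds X)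
  have hker : i.ker ≤ I.subschemeι.ker := by
    rw [Scheme.IdealSheafData.ker_subschemeι]
    refine Scheme.IdealSheafData.le_support_iff_le_vanishingIdeal.1 ?_
    intro x hx
    exact i.range_subset_ker_support (hr hx)
  let j := IsClosedImmersion.lift i I.subschemeι hker
  have hj : j ≫ i = I.subschemeι := IsClosedImmersion.lift_fac _ _ _
  have : IsClosedImmersion (j ≫ i) := by rw [hj]; infer_instance
  have : IsClosedImmersion j := IsClosedImmersion.of_comp j i
  show IsProper (I.subschemeι ≫ f)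
  rw [← hj, Category.assoc]
  infer_instance

theorem range_restrict_subscheme {C : Set X} (hC : IsClosed C) (U : X.Opens) :
    U.ι ⁻¹' C ⊆ Set.range ((Scheme.IdealSheafData.vanishingIdeal (⟨C, hC⟩ : Closeds X)).subschemeι ∣_ U) := by
  intro w hw
  let i := (Scheme.IdealSheafData.vanishingIdeal (⟨C, hC⟩ : Closeds X)).subschemeι
  obtain ⟨z, hz⟩ : U.ι w ∈ Set.range i := by
    rw [Scheme.IdealSheafData.range_subschemeι, Scheme.IdealSheafData.coe_support_vanishingIdeal]
    exact hw
  have hzU : z ∈ i ⁻¹ᵁ U := by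
    show i z ∈ U
    rw [hz]; exact w.2
  refine ⟨⟨z, hzU⟩, U.ι.isOpenEmbedding.injective ?_⟩
  exact (congr(($(morphismRestrict_ι i U)) ⟨z, hzU⟩)).trans hz

/-- Properness over the base is preserved by restriction to an open of the base. -/
theorem isProperOver_preimage {C : Set X} (h : ClSub.IsProperOver f C) (V : S.Opens) :
    ClSub.IsProperOver (f ∣_ V) ((f ⁻¹ᵁ V).ι ⁻¹' C) := by
  obtain ⟨hC, hp⟩ := h
  let i := (Scheme.IdealSheafData.vanishingIdeal (⟨C, hC⟩ : Closeds X)).subschemeι
  have : IsProper (i ≫ f) := hp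
  have : IsProper ((i ∣_ (f ⁻¹ᵁ V)) ≫ (f ∣_ V)) := by rw [← morphismRestrict_comp]; infer_instance
  exact isProperOver_of_subset_range (f ∣_ V) (hC.preimage (f ⁻¹ᵁ V).ι.continuous) (i ∣_ (f ⁻¹ᵁ V))
    (range_restrict_subscheme hC _)

/-- Properness over the base does not depend on an open neighbourhood. -/
theorem isProperOver_open {C : Set X} (h : ClSub.IsProperOver f C) (U : X.Opens) (hCU : C ⊆ U) :
    ClSub.IsProperOver (U.ι ≫ f) (U.ι ⁻¹' C) := by
  obtain ⟨hC, hp⟩ := h
  let i := (Scheme.IdealSheafData.vanishingIdeal (⟨C, hC⟩ : Closeds X)).subschemeι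
  have : IsProper (i ≫ f) := hp
  have hcl : IsClosedImmersion (i ⁻¹ᵁ U).ι := by
    refine IsClosedImmersion.of_isPreimmersion _ ?_
    rw [Scheme.Opens.range_ι]
    have : (i ⁻¹ᵁ U : Set _) = Set.univ := Set.eq_univ_of_forall fun z => hCU (by
      have := Set.mem_range_self (f := i) z
      rwa [Scheme.IdealSheafData.range_subschemeι, Scheme.IdealSheafData.coe_support_vanishingIdeal] at this)
    rw [this]
    exact isClosed_univ
  have : IsProper ((i ∣_ U) ≫ U.ι ≫ f) := by
    rw [morphismRestrict_ι_assoc]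
    infer_instance
  exact isProperOver_of_subset_range (U.ι ≫ f) (hC.preimage U.ι.continuous) (i ∣_ U) (range_restrict_subscheme hC _)

theorem isCoh_restrict {Y : Scheme.{u}} (j : Y ⟶ X) [IsOpenImmersion j] {M : X.Modules} (hM : Coh.IsCoh M) :
    Coh.IsCoh (M.restrict j) :=
  QCohLib.isCoh_of_iso ((Scheme.Modules.restrictFunctorIsoPullback j).app M).symm (QCohLib.isCoh_pullback j M hM)

variable [HasInjectiveResolutions X.Modules]

theorem isCoh_rpush_affine_of_quasiCompact [IsAffine S] [IsLocallyNoetherian S] [LocallyOfFiniteType f]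
    [QuasiCompact f] {C : Set X} (hC : ClSub.IsProperOver f C) (M : X.Modules) (hM : Coh.IsCoh M)
    (hs : CohB1.support M ⊆ C) (q : ℕ) : Coh.IsCoh ((Coh.Rpush f q).obj M) := by
  haveI := hM.1
  haveI : IsLocallyNoetherian X := LocallyOfFiniteType.isLocallyNoetherian f
  haveI : QuasiSeparated f := QuasiSeparated.of_comp f (terminal.from S)
  haveI : IsNoetherianRing Γ(S, ⊤) := IsLocallyNoetherian.component_noetherian ⟨⊤, isAffineOpen_top S⟩
  have hR : ∀ r, ((Coh.Rpush f r).obj M).IsQuasicoherent := fun r => isQuasicoherent_rpush f M r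
  let b : X ⟶ Spec (CommRingCat.of Γ(S, ⊤)) := f ≫ S.isoSpec.hom
  have hb : Coh.toGlobal b = baseAct f := by
    have h : b.appTop = (Scheme.ΓSpecIso Γ(S, ⊤)).hom ≫ f.appTop := by
      rw [Scheme.Hom.comp_appTop, ← Scheme.toSpecΓ_appTop]; rfl
    refine RingHom.ext fun a => ?_
    show b.appTop ((Scheme.ΓSpecIso (CommRingCat.of Γ(S, ⊤))).inv a) = f.appTop a
    rw [h]
    exact congrArg f.appTop (Iso.inv_hom_id_apply (Scheme.ΓSpecIso Γ(S, ⊤)) a)
  have hCb : ClSub.IsProperOver b C := by
    obtain ⟨h, hp⟩ := hC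
    refine ⟨h, ?_⟩
    have := hp
    show IsProper (_ ≫ f ≫ S.isoSpec.hom)
    rw [← Category.assoc]
    infer_instance
  have hfin : AllFin (baseAct f) M := hb ▸ allFin_of_isProperOver b hCb M hM hs
  haveI := preservesFiniteLimits_pushforward f
  have hA : Acyc f M := ⟨fun m => by
    haveI := QCohLib.isQuasicoherent_pushforward (M := M) f
    exact subsingleton_EU_of_isAffineOpen _ (isAffineOpen_top S) m, fun r => hR (r + 1)⟩
  have hsec : Module.Finite Γ(S, ⊤) Γ((Coh.Rpush f q).obj M, ⊤) := by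
    cases q with
    | zero =>
      have : Module.Finite Γ(S, ⊤) Γ((Scheme.Modules.pushforward f).obj M, ⊤) :=
        @Module.Finite.equiv _ _ _ _ _ _ _ _ (hfin 0) (h0Lin f M).symm
      exact Module.Finite.of_surjective (appLin ((Scheme.Modules.pushforward f).rightDerivedZeroIsoSelf.inv.app M) ⊤)
        (ConcreteCategory.bijective_of_isIso
          (((Scheme.Modules.pushforward f).rightDerivedZeroIsoSelf.inv.app M).app ⊤)).2
    | succ q => exact finite_sections_rpush_aux f q M hA (hfin (q + 1))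
  haveI := hR q
  exact ⟨hR q, QCohLib.isFiniteType_of_affine_cover _ (fun _ : PUnit.{u + 1} => ⟨⊤, isAffineOpen_top S⟩)
    (fun x => ⟨PUnit.unit, trivial⟩) fun _ => hsec⟩

theorem isCoh_rpush_affine [IsAffine S] [IsLocallyNoetherian S] [LocallyOfFiniteType f] {C : Set X}
    (hC : ClSub.IsProperOver f C) (M : X.Modules) (hM : Coh.IsCoh M) (hs : CohB1.support M ⊆ C) (q : ℕ) :
    Coh.IsCoh ((Coh.Rpush f q).obj M) := by
  haveI := hM.1
  obtain ⟨hcl, hp⟩ := id hC
  let I := Scheme.IdealSheafData.vanishingIdeal (⟨C, hcl⟩ : Closeds X)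
  haveI : IsProper (I.subschemeι ≫ f) := hp
  haveI : CompactSpace I.subscheme := QuasiCompact.compactSpace_of_compactSpace (I.subschemeι ≫ f)
  have hcpt : IsCompact C := by
    have h := isCompact_range (I.subschemeι.continuous)
    rwa [Scheme.IdealSheafData.range_subschemeι, Scheme.IdealSheafData.coe_support_vanishingIdeal] at h
  obtain ⟨t, ht⟩ := hcpt.elim_finite_subcover (fun U : X.affineOpens => (U.1 : Set X)) (fun U => U.1.2)
    fun x _ => by
      obtain ⟨U, hU, hxU, -⟩ := exists_isAffineOpen_mem_and_subset (Opens.mem_top x)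
      exact Set.mem_iUnion.2 ⟨⟨U, hU⟩, hxU⟩
  let U : X.Opens := ⨆ V ∈ t, V.1
  have hCU : C ⊆ U := fun x hx => by
    obtain ⟨V, hV, hxV⟩ := Set.mem_iUnion₂.1 (ht hx)
    exact Opens.mem_iSup.2 ⟨V, Opens.mem_iSup.2 ⟨hV, hxV⟩⟩
  have hUc : IsCompact (U : Set X) := by
    have : (U : Set X) = ⋃ V ∈ t, (V.1 : Set X) := by simp [U]
    rw [this]
    exact t.isCompact_biUnion fun V _ => V.2.isCompact
  let V : X.Opens := ⟨Cᶜ, hcl.isOpen_compl⟩
  have hz : ∀ W : X.Opens, W ≤ V → ∀ n, IsZero (((J W ⋙ Scheme.Modules.pushforward f).rightDerived n).obj M) := by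
    intro W hW n
    haveI := hasInjectiveResolutions_modules W.toScheme
    obtain ⟨e⟩ := nonempty_J_rightDerived_iso f W n
    haveI : (Coh.Rpush (W.ι ≫ f) n).Additive := inferInstance
    refine (Functor.map_isZero (Coh.Rpush (W.ι ≫ f) n) ?_).of_iso (e.app M)
    refine QCohLib.isZero_restrict_of_subsingleton_stalk W.ι fun w => ?_
    by_contra hne
    exact hW w.2 (hs hne)
  have hUV : U ⊔ V = ⊤ := top_le_iff.1 fun x _ => by
    by_cases hx : x ∈ C
    · exact Or.inl (hCU hx)
    · exact Or.inr hx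
  obtain ⟨e⟩ := nonempty_iso_of_isZero f U V ⊤ hUV M q (hz V le_rfl) (hz (V ⊓ U) inf_le_left)
  haveI := hasInjectiveResolutions_modules U.toScheme
  obtain ⟨e'⟩ := nonempty_J_rightDerived_iso f U q
  haveI : ∀ N : X.Modules, IsIso ((η (⊤ : X.Opens)).app N) := fun N =>
    Scheme.Modules.Hom.isIso_iff_isIso_app.2 fun O => η_app_isIso _ N le_top
  haveI : IsIso (η (⊤ : X.Opens)) := NatIso.isIso_of_isIso_app _
  let e₀ := (rightDerivedIso ((Functor.leftUnitor _).symm ≪≫
    Functor.isoWhiskerRight (asIso (η (⊤ : X.Opens))) (Scheme.Modules.pushforward f)) q).app M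
  refine QCohLib.isCoh_of_iso (e₀ ≪≫ e ≪≫ e'.app M).symm ?_
  haveI : IsAffine S := ‹_›
  haveI : CompactSpace U.toScheme := isCompact_iff_compactSpace.1 hUc
  haveI : QuasiCompact (U.ι ≫ f) := (quasiCompact_iff_compactSpace _).2 inferInstance
  refine isCoh_rpush_affine_of_quasiCompact (U.ι ≫ f) (isProperOver_open f hC U hCU) (M.restrict U.ι)
    (isCoh_restrict U.ι hM) ?_ q
  intro w hw
  exact hs fun h => hw ((QCohLib.subsingleton_restrict_stalk_iff U.ι M w).2 h)

/-- Higher direct images of coherent modules with proper support are coherent. -/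
theorem isCoh_rpush [IsLocallyNoetherian S] [LocallyOfFiniteType f] {C : Set X}
    (hC : ClSub.IsProperOver f C) (M : X.Modules) (hM : Coh.IsCoh M) (hs : CohB1.support M ⊆ C) (q : ℕ) :
    Coh.IsCoh ((Coh.Rpush f q).obj M) := by
  haveI := hM.1
  refine QCohLib.isCoh_of_cover (ι := S.affineOpens) (fun V => V.1.ι) (fun x => ?_) fun V => ?_
  · obtain ⟨V, hV⟩ := QCohLib.exists_affine_mem x
    exact ⟨V, ⟨⟨x, hV⟩, rfl⟩⟩
  · haveI := hasInjectiveResolutions_modules (f ⁻¹ᵁ V.1).toScheme
    haveI : IsAffine V.1.toScheme := V.2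
    haveI : LocallyOfFiniteType (f ∣_ V.1) := IsZariskiLocalAtTarget.restrict ‹_› V.1
    obtain ⟨e⟩ := nonempty_rpush_restrict_iso f V.1 q
    refine QCohLib.isCoh_of_iso (e.app M).symm (isCoh_rpush_affine (f ∣_ V.1) (isProperOver_preimage f hC V.1)
      (M.restrict (f ⁻¹ᵁ V.1).ι) (isCoh_restrict (f ⁻¹ᵁ V.1).ι hM) ?_ q)
    intro w hw
    exact hs fun h => hw ((QCohLib.subsingleton_restrict_stalk_iff (f ⁻¹ᵁ V.1).ι M w).2 h)

end Groth.Agent.HigherDirect
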