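import Groth.Agent.HigherDirect.SecEquiv
import Groth.Agent.FlatBC.Main
import Groth.Agent.FormalFun.Statements
import Groth.Agent.QCohLib.StalkLoc
import Mathlib.RingTheory.Localization.BaseChange

/-!
# Stalks of higher direct images are cohomology over the local scheme
-/

set_option autoImplicit false
set_option linter.style.haveILetI false
set_option backward.isDefEq.respectTransparency false
set_option backward.isDefEq.respectTransparency.types false
universe u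

open CategoryTheory CategoryTheory.Limits AlgebraicGeometry Opposite TopologicalSpace TensorProduct

namespace Groth.Agent.HigherDirect

open Groth.Agent.CohVanish Groth.Agent.CohFinite Groth.Agent.CechCmp

/-- The action on cohomology. -/
theorem hMod_smul_eq {R : Type u} [CommRing R] {T : TopCat.{u}} (F : RSh R T) (U : Opens T) (p : ℕ) (a : R)
    (x : HMod F U p) : a • x = eMap (F.act a) U p x := rfl

/-- A change of the ring acting. -/
theorem smul_comp {A B : Type u} [CommRing A] [CommRing B] {T : TopCat.{u}} (F : AbSh T) (α : A →+* End F)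
    (β : B →+* End F) (σ : A → B) (h : ∀ a, α a = β (σ a)) (U : Opens T) (p : ℕ) (a : A)
    (x : HMod (RSh.mk F α) U p) :
    a • x = ((σ a • (show HMod (RSh.mk F β) U p from x) : HMod (RSh.mk F β) U p) : HMod (RSh.mk F α) U p) := by
  refine (hMod_smul_eq (RSh.mk F α) U p a x).trans ?_
  refine Eq.trans ?_ (hMod_smul_eq (RSh.mk F β) U p (σ a) x).symm
  exact congrArg (fun r => eMap r U p x) (h a)

/-- A change of the ring acting, for modules. -/
theorem smul_hMod_comp {A B : Type u} [CommRing A] [CommRing B] {X : Scheme.{u}} (φ : A →+* Coh.Γtop X)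
    (φ' : B →+* Coh.Γtop X) (σ : A → B) (h : ∀ a, φ a = φ' (σ a)) (N : X.Modules) (U : X.Opens) (p : ℕ) (a : A)
    (x : HMod (modRSh φ N) U p) :
    a • x = ((σ a • (show HMod (modRSh φ' N) U p from x) : HMod (modRSh φ' N) U p) : HMod (modRSh φ N) U p) :=
  smul_comp (Coh.toAb N) (modRSh φ N).act (modRSh φ' N).act σ
    (fun a => (modRSh_act φ N a).trans ((congrArg (Coh.smulAb N) (h a)).trans (modRSh_act φ' N (σ a)).symm)) U p a x
/-- Cohomology over equal opens. -/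
noncomputable def hModCast {R : Type u} [CommRing R] {T : TopCat.{u}} (F : RSh R T) {U U' : Opens T}
    (h : U = U') (p : ℕ) : HMod F U p ≃ₗ[R] HMod F U' p :=
  h ▸ LinearEquiv.refl R (HMod F U p)

/-- An isomorphism of sheaves with action, on cohomology. -/
noncomputable def hModIso {A : Type u} [CommRing A] {T : TopCat.{u}} {F G : RSh A T} (u : RSh.Hom F G)
    (v : RSh.Hom G F) (h₁ : u.hom ≫ v.hom = 𝟙 F.F) (h₂ : v.hom ≫ u.hom = 𝟙 G.F) (U : Opens T) (p : ℕ) :
    HMod F U p ≃ₗ[A] HMod G U p :=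
  LinearEquiv.ofBijective (mapHMod u U p)
    ⟨Function.LeftInverse.injective (g := mapHMod v U p) fun x =>
        ((eMap_comp u.hom v.hom U p x).symm.trans (congrArg (fun a => eMap a U p x) h₁)).trans (eMap_id U p x),
      mapHMod_surjective_of_section v u h₂ U p⟩

/-- Isomorphic modules have isomorphic cohomology. -/
noncomputable def modIsoH {A : Type u} [CommRing A] {X : Scheme.{u}} (φ : A →+* Coh.Γtop X) {M N : X.Modules}
    (e : M ≅ N) (U : Opens (sp X)) (p : ℕ) : HMod (modRSh φ M) U p ≃ₗ[A] HMod (modRSh φ N) U p :=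
  hModIso (modHom φ e.hom) (modHom φ e.inv) ((toAbF X).mapIso e).hom_inv_id ((toAbF X).mapIso e).inv_hom_id U p

/-- Cohomology of isomorphic modules, linearly. -/
noncomputable def hhIso {A : Type u} [CommRing A] {X : Scheme.{u}} [X.Over (Spec (CommRingCat.of A))]
    {M N : X.Modules} (e : M ≅ N) (p : ℕ) : Coh.HH X M p ≃ₗ[A] Coh.HH X N p :=
  hhEquiv M p ≪≫ₗ modIsoH (Coh.toGlobal (X ↘ Spec (CommRingCat.of A))) e ⊤ p ≪≫ₗ (hhEquiv N p).symm

variable {X Y : Scheme.{u}} (f : X ⟶ Y)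

/-- The preimage of an affine open, over the ring of functions. -/
noncomputable abbrev overSec {V : Y.Opens} (hV : IsAffineOpen V) :
    (f ⁻¹ᵁ V).toScheme ⟶ Spec (CommRingCat.of Γ(Y, V)) := (f ∣_ V) ≫ hV.isoSpec.hom

theorem toGlobal_overSec {V : Y.Opens} (hV : IsAffineOpen V) (a : Γ(Y, V)) :
    Coh.toGlobal (overSec f hV) a = baseAct (f ∣_ V) (V.topIso.inv a) := by
  show ((f ∣_ V) ≫ hV.isoSpec.hom).appTop ((Scheme.ΓSpecIso Γ(Y, V)).inv a) = _
  rw [Scheme.Hom.comp_appTop, IsAffineOpen.isoSpec_hom_appTop, CommRingCat.comp_apply, CommRingCat.comp_apply,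
    Iso.inv_hom_id_apply]
  rfl

/-- Sections of a higher direct image over an affine open, linearly. -/
theorem nonempty_sections_equiv_HH [HasInjectiveResolutions X.Modules] [QuasiCompact f] [QuasiSeparated f]
    (M : X.Modules) [M.IsQuasicoherent] {V : Y.Opens} (hV : IsAffineOpen V) (p : ℕ) :
    letI : (f ⁻¹ᵁ V).toScheme.Over (Spec (CommRingCat.of Γ(Y, V))) := ⟨overSec f hV⟩
    Nonempty (Γ((Coh.Rpush f p).obj M, V) ≃ₗ[Γ(Y, V)] Coh.HH (f ⁻¹ᵁ V).toScheme (M.restrict (f ⁻¹ᵁ V).ι) p) := by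
  letI : (f ⁻¹ᵁ V).toScheme.Over (Spec (CommRingCat.of Γ(Y, V))) := ⟨overSec f hV⟩
  haveI : IsAffine V.toScheme := hV
  haveI := hasInjectiveResolutions_modules (f ⁻¹ᵁ V).toScheme
  let R := (Coh.Rpush f p).obj M
  let N := M.restrict (f ⁻¹ᵁ V).ι
  haveI : N.IsQuasicoherent :=
    have := QCohLib.isQuasicoherent_pullback (f ⁻¹ᵁ V).ι M
    QCohLib.isQuasicoherent_of_iso ((Scheme.Modules.restrictFunctorIsoPullback (f ⁻¹ᵁ V).ι).app M).symm
  obtain ⟨i⟩ := nonempty_rpush_restrict_iso f V p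
  obtain ⟨e₂⟩ := nonempty_sections_rpush_equiv (f ∣_ V) N p
  let j : Γ(R, V) ≃+ Γ(R.restrict V.ι, ⊤) :=
    (asIso (R.presheaf.map (eqToHom V.ι_image_top).op)).addCommGroupIsoToAddEquiv
  have hj : ∀ (a : Γ(Y, V)) (x : Γ(R, V)), j (a • x) = V.topIso.inv a • j x := fun a x => by
    show R.presheaf.map (eqToHom V.ι_image_top).op (a • x) = _
    rw [show eqToHom V.ι_image_top = homOfLE V.ι_image_top.le from rfl, Scheme.Modules.map_smul]
    show _ = (V.ι.appIso ⊤).inv (V.topIso.inv a) • (show Γ(R, V.ι ''ᵁ ⊤) from R.presheaf.map (eqToHom V.ι_image_top).op x)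
    rw [Scheme.Opens.ι_appIso]
    rfl
  let e₁ : Γ(R.restrict V.ι, ⊤) ≃ₗ[Γ(V.toScheme, ⊤)] Γ((Coh.Rpush (f ∣_ V) p).obj N, ⊤) :=
    LinearEquiv.ofBijective (appLin (i.app M).hom ⊤)
      (ConcreteCategory.bijective_of_isIso ((i.app M).hom.app ⊤))
  let e₃ : Coh.HH (f ⁻¹ᵁ V).toScheme N p ≃ₗ[Γ(Y, V)]
      HMod (modRSh (Coh.toGlobal (overSec f hV)) N) ((Opens.map (f ∣_ V).base).obj ⊤) p :=
    (hhEquiv (A := Γ(Y, V)) N p) ≪≫ₗ hModCast _ (Opens.map_top (f ∣_ V).base).symm p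
  let e₄ : Γ(R, V) ≃+ HMod (modRSh (Coh.toGlobal (overSec f hV)) N) ((Opens.map (f ∣_ V).base).obj ⊤) p :=
    (j.trans e₁.toAddEquiv).trans e₂.toAddEquiv
  refine ⟨AddEquiv.toLinearEquiv e₄ (fun a x => ?_) ≪≫ₗ e₃.symm⟩
  show e₂ (e₁ (j (a • x))) = _
  rw [hj, map_smul, map_smul]
  exact (smul_hMod_comp (Coh.toGlobal (overSec f hV)) (baseAct (f ∣_ V)) (fun a => V.topIso.inv a)
    (toGlobal_overSec f hV) N ((Opens.map (f ∣_ V).base).obj ⊤) p a (e₄ x)).symm

/-- The stalk of a higher direct image is the cohomology over the local scheme. -/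
theorem nonempty_stalk_equiv_HH [HasInjectiveResolutions X.Modules] [QuasiCompact f] [QuasiSeparated f]
    (M : X.Modules) [M.IsQuasicoherent] (y : Y) (p : ℕ) (X₁ : Scheme.{u})
    [X₁.Over (Spec (CommRingCat.of (Y.presheaf.stalk y)))] (g : X₁ ⟶ X)
    (hsq : IsPullback g (X₁ ↘ Spec (CommRingCat.of (Y.presheaf.stalk y))) f (Y.fromSpecStalk y)) :
    Nonempty (((Coh.Rpush f p).obj M).presheaf.stalk y ≃ₗ[Y.presheaf.stalk y]
      Coh.HH X₁ ((Scheme.Modules.pullback g).obj M) p) := by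
  obtain ⟨⟨V, hV⟩, hy⟩ := QCohLib.exists_affine_mem y
  let R := (Coh.Rpush f p).obj M
  haveI : R.IsQuasicoherent := isQuasicoherent_rpush f M p
  letI : (f ⁻¹ᵁ V).toScheme.Over (Spec (CommRingCat.of Γ(Y, V))) := ⟨overSec f hV⟩
  haveI : QuasiSeparatedSpace (f ⁻¹ᵁ V).toScheme :=
    have : IsAffine V.toScheme := hV
    quasiSeparatedSpace_of_quasiSeparated (f ∣_ V)
  haveI : CompactSpace (f ⁻¹ᵁ V).toScheme :=
    isCompact_iff_compactSpace.1 (QuasiCompact.isCompact_preimage (f := f) _ V.2 hV.isCompact)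
  haveI : (M.restrict (f ⁻¹ᵁ V).ι).IsQuasicoherent :=
    have := QCohLib.isQuasicoherent_pullback (f ⁻¹ᵁ V).ι M
    QCohLib.isQuasicoherent_of_iso ((Scheme.Modules.restrictFunctorIsoPullback (f ⁻¹ᵁ V).ι).app M).symm
  letI : Algebra Γ(Y, V) (Y.presheaf.stalk y) := TopCat.Presheaf.algebra_section_stalk Y.presheaf ⟨y, hy⟩
  haveI := hV.isLocalization_stalk ⟨y, hy⟩
  haveI : Module.Flat Γ(Y, V) (Y.presheaf.stalk y) :=
    IsLocalization.flat (Y.presheaf.stalk y) (hV.primeIdealOf ⟨y, hy⟩).asIdeal.primeCompl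
  have sq : IsPullback (f ⁻¹ᵁ V).ι (overSec f hV) f hV.fromSpec :=
    (isPullback_morphismRestrict f V).flip.of_iso (Iso.refl _) (Iso.refl _) hV.isoSpec (Iso.refl _)
      (by simp) (by simp) (by simp) (by simp)
  have hspec : Y.fromSpecStalk y = Spec.map (Y.presheaf.germ V y hy) ≫ hV.fromSpec :=
    (hV.fromSpecStalk_eq_fromSpecStalk hy).symm
  let g₁ : X₁ ⟶ (f ⁻¹ᵁ V).toScheme :=
    sq.lift g ((X₁ ↘ Spec (CommRingCat.of (Y.presheaf.stalk y))) ≫ Spec.map (Y.presheaf.germ V y hy))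
      (by rw [Category.assoc, ← hspec]; exact hsq.w)
  have hg₁ : g₁ ≫ (f ⁻¹ᵁ V).ι = g := sq.lift_fst _ _ _
  have hpb : IsPullback g₁ (X₁ ↘ Spec (CommRingCat.of (Y.presheaf.stalk y))) (overSec f hV)
      (Spec.map (CommRingCat.ofHom (algebraMap Γ(Y, V) (Y.presheaf.stalk y)))) := by
    have hsq' := hsq
    rw [← hg₁, hspec] at hsq'
    exact IsPullback.of_right hsq' (sq.lift_snd _ _ _) sq
  obtain ⟨bc⟩ := FlatBC.nonempty_baseChange_HH Γ(Y, V) (Y.presheaf.stalk y) (f ⁻¹ᵁ V).toScheme X₁ g₁ hpb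
    (M.restrict (f ⁻¹ᵁ V).ι) p
  obtain ⟨sec⟩ := nonempty_sections_equiv_HH f M hV p
  let iso : (Scheme.Modules.pullback g₁).obj (M.restrict (f ⁻¹ᵁ V).ι) ≅ (Scheme.Modules.pullback g).obj M :=
    (Scheme.Modules.pullback g₁).mapIso ((Scheme.Modules.restrictFunctorIsoPullback (f ⁻¹ᵁ V).ι).app M) ≪≫
      (Scheme.Modules.pullbackComp g₁ (f ⁻¹ᵁ V).ι).app M ≪≫ (Scheme.Modules.pullbackCongr hg₁).app M
  letI := QCohLib.germModule R y hy
  haveI : IsScalarTower Γ(Y, V) (Y.presheaf.stalk y) (R.presheaf.stalk y) :=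
    IsScalarTower.of_algebraMap_smul fun _ _ => rfl
  haveI := QCohLib.isLocalizedModule_germ (M := R) hV y hy
  have bl : IsBaseChange (Y.presheaf.stalk y) (QCohLib.germLinearMap R y hy) :=
    IsLocalizedModule.isBaseChange (hV.primeIdealOf ⟨y, hy⟩).asIdeal.primeCompl _ _
  exact ⟨bl.equiv.symm ≪≫ₗ LinearEquiv.baseChange Γ(Y, V) (Y.presheaf.stalk y) _ _ sec ≪≫ₗ bc ≪≫ₗ hhIso iso p⟩

end Groth.Agent.HigherDirect
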