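import Groth.Agent.HigherDirect.InjMod
import Groth.Agent.KerDerived.LocCohSeq
import Groth.Agent.KerDerived.PostComp
import Groth.Agent.CohVanish.Affine

/-!
# Higher direct images of O-modules and of the underlying abelian sheaves agree
-/

set_option autoImplicit false
set_option linter.style.haveILetI false
set_option backward.isDefEq.respectTransparency false
set_option backward.isDefEq.respectTransparency.types false
universe u

open CategoryTheory CategoryTheory.Limits AlgebraicGeometry Opposite TopologicalSpace

namespace Groth.Agent.HigherDirect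

open Groth.Agent.CohVanish

theorem preservesFiniteLimits_pushforward {X Y : Scheme.{u}} (f : X ⟶ Y) :
    PreservesFiniteLimits (Scheme.Modules.pushforward f) := by
  haveI : PreservesLimitsOfSize.{0, 0} (Scheme.Modules.pushforward f) :=
    (Scheme.Modules.pullbackPushforwardAdjunction f).rightAdjoint_preservesLimits
  exact PreservesLimitsOfSize.preservesFiniteLimits _

/-- Isomorphic functors have isomorphic derived functors. -/
noncomputable def rightDerivedIso {C D : Type*} [Category* C] [Category* D] [Abelian C] [Abelian D]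
    [HasInjectiveResolutions C] {F G : C ⥤ D} [F.Additive] [G.Additive] (e : F ≅ G) (n : ℕ) :
    F.rightDerived n ≅ G.rightDerived n where
  hom := NatTrans.rightDerived e.hom n
  inv := NatTrans.rightDerived e.inv n
  hom_inv_id := by rw [← NatTrans.rightDerived_comp, e.hom_inv_id, NatTrans.rightDerived_id]
  inv_hom_id := by rw [← NatTrans.rightDerived_comp, e.inv_hom_id, NatTrans.rightDerived_id]

/-- `toAb` turns the higher direct images of modules into those of abelian sheaves, naturally. -/
theorem nonempty_rpush_toAb_iso {X Y : Scheme.{u}} (f : X ⟶ Y) [HasInjectiveResolutions X.Modules] (n : ℕ) :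
    Nonempty (Coh.Rpush f n ⋙ toAbF Y ≅ toAbF X ⋙ Coh.RpushAb f n) := by
  haveI := enoughInjectives_modules X
  haveI := preservesFiniteLimits_pushforward f
  haveI : PreservesFiniteLimits (Coh.pushAb f) := KerDerived.preservesFiniteLimits_push (f.base : sp X ⟶ sp Y)
  obtain ⟨e₁⟩ := KerDerived.nonempty_postcomp_iso (Scheme.Modules.pushforward f) (toAbF Y) n
  obtain ⟨e₂⟩ := KerDerived.nonempty_comp_iso (toAbF X) (Coh.pushAb f) (fun I _ q => by
    haveI : TopCat.Sheaf.IsFlasque ((toAbF X).obj I) := isFlasque_toAb_of_injective I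
    exact KerDerived.isZero_Rpush_of_flasque (f.base : sp X ⟶ sp Y) q ((toAbF X).obj I)) n
  exact ⟨e₁.symm ≪≫ rightDerivedIso (Iso.refl _ : Scheme.Modules.pushforward f ⋙ toAbF Y ≅ toAbF X ⋙ Coh.pushAb f) n ≪≫ e₂⟩

/-- A module with zero underlying sheaf is zero. -/
theorem isZero_of_isZero_toAb {X : Scheme.{u}} {M : X.Modules} (h : IsZero (Coh.toAb M)) : IsZero M := by
  rw [IsZero.iff_id_eq_zero]
  apply (toAbF X).map_injective
  exact h.eq_of_src _ _

theorem isZero_rpush_of_isZero_rpushAb {X Y : Scheme.{u}} (f : X ⟶ Y) [HasInjectiveResolutions X.Modules]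
    (M : X.Modules) (n : ℕ) (h : IsZero ((Coh.RpushAb f n).obj (Coh.toAb M))) : IsZero ((Coh.Rpush f n).obj M) := by
  obtain ⟨e⟩ := nonempty_rpush_toAb_iso f n
  exact isZero_of_isZero_toAb (h.of_iso (e.app M))

end Groth.Agent.HigherDirect
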