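import Groth.Agent.HigherDirect.QCoh

/-!
# Higher direct images commute with restriction to opens of the base; quasi-coherence in general
-/

set_option autoImplicit false
set_option linter.style.haveILetI false
set_option backward.isDefEq.respectTransparency false
set_option backward.isDefEq.respectTransparency.types false
universe u

open CategoryTheory CategoryTheory.Limits AlgebraicGeometry Opposite TopologicalSpace

namespace Groth.Agent.HigherDirect

variable {X S : Scheme.{u}} (f : X ⟶ S)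

/-- `f_*` commutes with restriction to an open of the base. -/
theorem nonempty_push_restrict_iso (V : S.Opens) :
    Nonempty (Scheme.Modules.pushforward f ⋙ Scheme.Modules.restrictFunctor V.ι ≅
      Scheme.Modules.restrictFunctor (f ⁻¹ᵁ V).ι ⋙ Scheme.Modules.pushforward (f ∣_ V)) := by
  let W : X.Opens := f ⁻¹ᵁ V
  let P := Scheme.Modules.pushforward f
  let R := Scheme.Modules.restrictFunctor V.ι
  let a : P ⋙ R ⟶ J W ⋙ P ⋙ R := Functor.whiskerRight (η W) (P ⋙ R)
  haveI : ∀ M, IsIso (a.app M) := fun M => Scheme.Modules.Hom.isIso_iff_isIso_app.2 fun O =>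
    η_app_isIso W M (O := f ⁻¹ᵁ (V.ι ''ᵁ O)) (f.preimage_mono (by
      rintro _ ⟨x, _, rfl⟩
      exact x.2))
  haveI : IsIso a := NatIso.isIso_of_isIso_app a
  have h : W.ι ≫ f = (f ∣_ V) ≫ V.ι := (morphismRestrict_ι f V).symm
  exact ⟨asIso a ≪≫ Functor.associator _ _ _ ≪≫ Functor.isoWhiskerLeft _ ((Functor.associator _ _ _).symm ≪≫
    Functor.isoWhiskerRight (Scheme.Modules.pushforwardComp W.ι f ≪≫ Scheme.Modules.pushforwardCongr h ≪≫
      (Scheme.Modules.pushforwardComp (f ∣_ V) V.ι).symm) R ≪≫ Functor.associator _ _ _ ≪≫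
    Functor.isoWhiskerLeft _ (Scheme.Modules.restrictFunctorAdjCounitIso V.ι) ≪≫ Functor.rightUnitor _)⟩

/-- Higher direct images commute with restriction to an open of the base. -/
theorem nonempty_rpush_restrict_iso [HasInjectiveResolutions X.Modules] (V : S.Opens)
    [HasInjectiveResolutions (f ⁻¹ᵁ V).toScheme.Modules] (q : ℕ) :
    Nonempty (Coh.Rpush f q ⋙ Scheme.Modules.restrictFunctor V.ι ≅
      Scheme.Modules.restrictFunctor (f ⁻¹ᵁ V).ι ⋙ Coh.Rpush (f ∣_ V) q) := by
  haveI := enoughInjectives_modules X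
  haveI := enoughInjectives_modules (f ⁻¹ᵁ V).toScheme
  haveI := preservesFiniteLimits_pushforward f
  haveI := preservesFiniteLimits_pushforward (f ∣_ V)
  haveI : PreservesFiniteColimits (Scheme.Modules.restrictFunctor V.ι) := by
    haveI := (Scheme.Modules.restrictAdjunction V.ι).leftAdjoint_preservesColimits
    infer_instance
  haveI : PreservesFiniteColimits (Scheme.Modules.restrictFunctor (f ⁻¹ᵁ V).ι) := by
    haveI := (Scheme.Modules.restrictAdjunction (f ⁻¹ᵁ V).ι).leftAdjoint_preservesColimits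
    infer_instance
  obtain ⟨i⟩ := nonempty_push_restrict_iso f V
  obtain ⟨e₁⟩ := KerDerived.nonempty_postcomp_iso (Scheme.Modules.pushforward f) (Scheme.Modules.restrictFunctor V.ι) q
  obtain ⟨e₂⟩ := KerDerived.nonempty_comp_iso (Scheme.Modules.restrictFunctor (f ⁻¹ᵁ V).ι)
    (Scheme.Modules.pushforward (f ∣_ V)) (fun I _ m => by
      refine isZero_rpush_of_isZero_rpushAb (f ∣_ V) ((Scheme.Modules.restrictFunctor (f ⁻¹ᵁ V).ι).obj I) (m + 1) ?_
      haveI := isFlasque_toAb_of_injective I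
      haveI : TopCat.Sheaf.IsFlasque (Coh.toAb ((Scheme.Modules.restrictFunctor (f ⁻¹ᵁ V).ι).obj I)) :=
        CohVanish.isFlasque_restrictSh (Y := CohVanish.sp X) (f ⁻¹ᵁ V).ι.isOpenEmbedding (Coh.toAb I)
      exact KerDerived.isZero_Rpush_of_flasque (X := CohVanish.sp (f ⁻¹ᵁ V).toScheme) (Y := CohVanish.sp V.toScheme)
        (f ∣_ V).base m (Coh.toAb ((Scheme.Modules.restrictFunctor (f ⁻¹ᵁ V).ι).obj I))) q
  exact ⟨e₁.symm ≪≫ rightDerivedIso i q ≪≫ e₂⟩

theorem isQuasicoherent_rpush [HasInjectiveResolutions X.Modules] [QuasiCompact f] [QuasiSeparated f]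
    (M : X.Modules) [M.IsQuasicoherent] (q : ℕ) : ((Coh.Rpush f q).obj M).IsQuasicoherent := by
  refine QCohLib.isQuasicoherent_of_cover (ι := S.affineOpens) (fun V => V.1.ι) (fun x => ?_) fun V => ?_
  · obtain ⟨V, hV⟩ := QCohLib.exists_affine_mem x
    exact ⟨V, by rwa [Scheme.Opens.opensRange_ι]⟩
  · haveI := hasInjectiveResolutions_modules (f ⁻¹ᵁ V.1).toScheme
    haveI : IsAffine V.1.toScheme := V.2
    obtain ⟨e⟩ := nonempty_rpush_restrict_iso f V.1 q
    exact @QCohLib.isQuasicoherent_of_iso _ _ _ (e.app M).symm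
      (isQuasicoherent_rpush_of_isAffine (f ∣_ V.1) (M.restrict (f ⁻¹ᵁ V.1).ι) q)

end Groth.Agent.HigherDirect
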