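import Groth.Agent.HigherDirect.AbVanish
import Groth.Agent.CohVanish.MV

/-!
# Vanishing of higher direct images of quasi-coherent modules
-/

set_option autoImplicit false
set_option linter.style.haveILetI false
set_option backward.isDefEq.respectTransparency false
universe u

open CategoryTheory CategoryTheory.Limits AlgebraicGeometry Opposite TopologicalSpace

namespace Groth.Agent.HigherDirect

open Groth.Agent.CohVanish

variable {X S : Scheme.{u}} (f : X ⟶ S)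

/-- The affine opens of a scheme form a basis. -/
theorem isBasis_affine (S : Scheme.{u}) : Opens.IsBasis (α := sp S) (Set.range fun U : S.affineOpens => U.1) := by
  rw [Subtype.range_coe]
  exact S.isBasis_affineOpens

theorem isZero_rpushAb_of_isAffineHom [IsAffineHom f] (M : X.Modules) [M.IsQuasicoherent] (n : ℕ) :
    IsZero ((Coh.RpushAb f (n + 1)).obj (Coh.toAb M)) :=
  isZero_Rpush (f.base : sp X ⟶ sp S) (fun U : S.affineOpens => U.1) (isBasis_affine S) n (Coh.toAb M)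
    fun U => subsingleton_EU_of_isAffineOpen M (U.2.preimage f) n

theorem isZero_stalk_rpushAb_of_isAffineHom_restrict (V : S.Opens) [IsAffineHom (f ∣_ V)] (M : X.Modules)
    [M.IsQuasicoherent] (n : ℕ) (y : S) (hy : y ∈ V) :
    IsZero (TopCat.Presheaf.stalk ((Coh.RpushAb f (n + 1)).obj (Coh.toAb M)).obj y) := by
  refine isZero_stalk_Rpush (f.base : sp X ⟶ sp S) (fun U : S.affineOpens => U.1) (isBasis_affine S) V n
    (Coh.toAb M) (fun U hU => subsingleton_EU_of_isAffineOpen M ?_ n) y hy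
  have h1 : IsAffineOpen (V.ι ⁻¹ᵁ U.1) := U.2.preimage_of_isOpenImmersion V.ι (by simpa using hU)
  have h2 := (h1.preimage (f ∣_ V)).image_of_isOpenImmersion (f ⁻¹ᵁ V).ι
  rw [image_morphismRestrict_preimage, Scheme.Hom.image_preimage_eq_opensRange_inf, Scheme.Opens.opensRange_ι, inf_eq_right.2 hU] at h2
  exact h2

variable {Y : Scheme.{u}}

/-- A quasi-compact open `U` of an affine open has cohomology of bounded degree on all opens `U ⊓ D`
meeting affine opens in affine opens. -/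
theorem exists_uniform_bound_of_le_affine {W U : Y.Opens} (hW : IsAffineOpen W) (hU : IsCompact (U : Set Y))
    (hUW : U ≤ W) : ∃ d : ℕ, ∀ (D : Y.Opens), (∀ V : Y.Opens, IsAffineOpen V → V ≤ U → IsAffineOpen (V ⊓ D)) →
      ∀ (M : Y.Modules) [M.IsQuasicoherent] (n : ℕ), d ≤ n →
        Subsingleton (EU (X := sp Y) (Coh.toAb M) (U ⊓ D) n) := by
  classical
  have key : ∀ x : U, ∃ g : Γ(Y, W), Y.basicOpen g ≤ U ∧ x.1 ∈ Y.basicOpen g :=
    fun x => hW.exists_basicOpen_le ⟨x, x.2⟩ (hUW x.2)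
  choose g hgU hxg using key
  obtain ⟨s, hs⟩ := hU.elim_finite_subcover (fun x : U => (Y.basicOpen (g x) : Set Y))
    (fun x => (Y.basicOpen (g x)).isOpen) fun x hx => Set.mem_iUnion.mpr ⟨⟨x, hx⟩, hxg _⟩
  refine ⟨s.card, fun D hD M _ n hn => ?_⟩
  have e : U = ⨆ i : Fin s.card, Y.basicOpen (g (s.equivFin.symm i).1) := by
    refine le_antisymm (fun x hx => ?_) (iSup_le fun i => hgU _)
    obtain ⟨i, hi, hxi⟩ : ∃ i ∈ s, x ∈ Y.basicOpen (g i) := by simpa using hs hx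
    exact Opens.mem_iSup.mpr ⟨s.equivFin ⟨i, hi⟩, by rw [Equiv.symm_apply_apply]; exact hxi⟩
  have e' : U ⊓ D = ⨆ i : Fin s.card, Y.basicOpen (g (s.equivFin.symm i).1) ⊓ D := by
    conv_lhs => rw [e]
    exact iSup_inf_eq _ D
  rw [e']
  refine subsingleton_EU_iSup_affine M
    (fun V => ∃ a : Γ(Y, W), Y.basicOpen a ≤ U ∧ V = Y.basicOpen a ⊓ D) ?_ ?_ _ _
    (fun i => ⟨_, hgU _, rfl⟩) n hn
  · rintro _ ⟨a, ha, rfl⟩
    exact hD _ (hW.basicOpen a) ha
  · rintro _ _ ⟨a, ha, rfl⟩ ⟨a', -, rfl⟩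
    refine ⟨a * a', ((Y.basicOpen_mul a a').le.trans inf_le_left).trans ha, ?_⟩
    rw [Y.basicOpen_mul, inf_inf_inf_comm, inf_idem]

/-- Uniform bound for quasi-compact opens. -/
theorem exists_uniform_bound [QuasiSeparatedSpace Y] (U : Y.Opens) (hU : IsCompact (U : Set Y)) :
    ∃ d : ℕ, ∀ (D : Y.Opens), (∀ V : Y.Opens, IsAffineOpen V → V ≤ U → IsAffineOpen (V ⊓ D)) →
      ∀ (M : Y.Modules) [M.IsQuasicoherent] (n : ℕ), d ≤ n →
        Subsingleton (EU (X := sp Y) (Coh.toAb M) (U ⊓ D) n) := by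
  refine compact_open_induction_on (P := fun U : Y.Opens => ∃ d : ℕ, ∀ (D : Y.Opens),
    (∀ V : Y.Opens, IsAffineOpen V → V ≤ U → IsAffineOpen (V ⊓ D)) → ∀ (M : Y.Modules)
    [M.IsQuasicoherent] (n : ℕ), d ≤ n → Subsingleton (EU (X := sp Y) (Coh.toAb M) (U ⊓ D) n)) U hU ?_ ?_
  · exact ⟨0, fun D _ M _ n _ => by rw [bot_inf_eq]; exact subsingleton_EU_bot (X := sp Y) _ n⟩
  · intro T hT V ih
    obtain ⟨d, hd⟩ := ih
    obtain ⟨d', hd'⟩ := exists_uniform_bound_of_le_affine V.2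
      (QuasiSeparatedSpace.inter_isCompact _ _ T.isOpen hT V.1.isOpen V.2.isCompact :
        IsCompact ((T ⊓ V.1 : Y.Opens) : Set Y)) inf_le_right
    refine ⟨max (max d (d' + 1)) 1, fun D hD M _ n hn => ?_⟩
    obtain ⟨n, rfl⟩ : ∃ m, n = m + 1 := ⟨n - 1, by omega⟩
    rw [inf_sup_right]
    refine subsingleton_EU_sup (X := sp Y) _ _ _ n ?_ (hd D (fun W hW h => hD W hW (h.trans le_sup_left)) M (n + 1) (by omega))
      (subsingleton_EU_of_isAffineOpen M (hD V.1 V.2 le_sup_right) n)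
    rw [inf_inf_inf_comm, inf_idem]
    exact hd' D (fun W hW h => hD W hW ((h.trans inf_le_left).trans le_sup_left)) M n (by omega)

theorem exists_bound_rpushAb [QuasiCompact f] [QuasiSeparated f] [CompactSpace S] :
    ∃ n : ℕ, ∀ (M : X.Modules), M.IsQuasicoherent → ∀ p : ℕ, n ≤ p →
      IsZero ((Coh.RpushAb f p).obj (Coh.toAb M)) := by
  obtain ⟨t, ht⟩ := (isCompact_univ (X := S)).elim_finite_subcover (fun V : S.affineOpens => (V.1 : Set S))
    (fun V => V.1.isOpen) fun x _ => by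
      obtain ⟨_, ⟨V, rfl⟩, hx, -⟩ := Opens.isBasis_iff_nbhd.mp (isBasis_affine S) (U := ⊤) (x := x) trivial
      exact Set.mem_iUnion.mpr ⟨V, hx⟩
  have hb : ∀ V : S.affineOpens, ∃ d : ℕ, ∀ (U : S.Opens), IsAffineOpen U → U ≤ V.1 →
      ∀ (M : X.Modules) [M.IsQuasicoherent] (n : ℕ), d ≤ n →
        Subsingleton (EU (X := sp X) (Coh.toAb M) (f ⁻¹ᵁ U) n) := fun V => by
    have : IsAffine V.1.toScheme := V.2
    let Z : Scheme.{u} := (f ⁻¹ᵁ V.1 : X.Opens)
    haveI : QuasiSeparatedSpace Z := quasiSeparatedSpace_of_quasiSeparated (f ∣_ V.1)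
    haveI : CompactSpace Z := QuasiCompact.compactSpace_of_compactSpace (f ∣_ V.1)
    obtain ⟨d, hd⟩ := exists_uniform_bound (⊤ : Z.Opens) isCompact_univ
    refine ⟨d, fun U hU hUV M _ n hn => ?_⟩
    let j : Z ⟶ X := (f ⁻¹ᵁ V.1).ι
    let D : Z.Opens := (f ∣_ V.1) ⁻¹ᵁ (V.1.ι ⁻¹ᵁ U)
    have hD : ∀ W : Z.Opens, IsAffineOpen W → W ≤ ⊤ → IsAffineOpen (W ⊓ D) := fun W hW _ => by
      have h : IsAffineOpen (V.1.ι ⁻¹ᵁ U) := hU.preimage_of_isOpenImmersion V.1.ι (by simpa using hUV)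
      haveI : IsAffine (W : Scheme.{u}) := hW
      haveI : IsAffineHom (W.ι ≫ (f ∣_ V.1)) := isAffineHom_of_isAffine _
      have h2 := (h.preimage (W.ι ≫ (f ∣_ V.1))).image_of_isOpenImmersion W.ι
      rwa [Scheme.Hom.comp_preimage, Scheme.Hom.image_preimage_eq_opensRange_inf, Scheme.Opens.opensRange_ι] at h2
    have h2 := hd D hD (M.restrict j) n hn
    rw [top_inf_eq] at h2
    obtain ⟨e⟩ := nonempty_EU_restrict_equiv (X := sp Z) (Y := sp X) j.isOpenEmbedding (Coh.toAb M) D n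
    have he : j ''ᵁ D = f ⁻¹ᵁ U := by
      rw [show D = (f ∣_ V.1) ⁻¹ᵁ (V.1.ι ⁻¹ᵁ U) from rfl, image_morphismRestrict_preimage,
        Scheme.Hom.image_preimage_eq_opensRange_inf, Scheme.Opens.opensRange_ι, inf_eq_right.2 hUV]
    rw [← he]
    exact @Function.Injective.subsingleton _ _ _ e.injective h2
  choose d hd using hb
  refine ⟨t.sup d + 1, fun M _ p hp => ?_⟩
  obtain ⟨p, rfl⟩ : ∃ m, p = m + 1 := ⟨p - 1, by omega⟩
  let B : {U : S.affineOpens // ∃ V ∈ t, U.1 ≤ V.1} → S.Opens := fun U => U.1.1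
  refine isZero_Rpush (f.base : sp X ⟶ sp S) B ?_ p (Coh.toAb M) fun ⟨U, V, hV, hUV⟩ => ?_
  · rw [Opens.isBasis_iff_nbhd]
    intro O x hx
    obtain ⟨V, hV, hxV⟩ : ∃ V ∈ t, x ∈ V.1 := by simpa using ht (Set.mem_univ x)
    obtain ⟨_, ⟨U, rfl⟩, hxU, hU⟩ := Opens.isBasis_iff_nbhd.mp (isBasis_affine S) (U := O ⊓ V.1) (x := x) ⟨hx, hxV⟩
    exact ⟨_, ⟨⟨U, V, hV, hU.trans inf_le_right⟩, rfl⟩, hxU, hU.trans inf_le_left⟩
  · have := Finset.le_sup (f := d) hV
    exact hd V U.1 U.2 hUV M (p + 1) (by omega)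

end Groth.Agent.HigherDirect
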