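import Groth.Agent.QCohLib.Closure
import Groth.Agent.QCohLib.CohLocal
import Mathlib.Algebra.Homology.HomologySequence
import Mathlib.Algebra.Homology.HomologicalComplexLimits
import Mathlib.Algebra.Homology.HomologicalComplexAbelian

/-!
# Quasi-coherence of homology from a square of complexes with isomorphic kernels
-/

set_option autoImplicit false
set_option linter.style.haveILetI false
set_option backward.isDefEq.respectTransparency false
universe u

open CategoryTheory CategoryTheory.Limits AlgebraicGeometry

namespace Groth.Agent.HigherDirect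

/-- A left exact functor turns a comparison of kernels into the comparison of the images. -/
theorem isIso_map_kernel_map {C D : Type*} [Category* C] [Category* D] [HasZeroMorphisms C] [HasZeroMorphisms D]
    [HasKernels C] [HasKernels D] (F : C ⥤ D) [F.PreservesZeroMorphisms] {A B A' B' : C} (α : A ⟶ B)
    (β : A' ⟶ B') (u : A ⟶ A') (v : B ⟶ B') (w : α ≫ v = u ≫ β)
    [PreservesLimit (parallelPair α 0) F] [PreservesLimit (parallelPair β 0) F]
    (h : IsIso (kernel.map (F.map α) (F.map β) (F.map u) (F.map v) (by rw [← F.map_comp, w, F.map_comp]))) :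
    IsIso (F.map (kernel.map α β u v w)) := by
  have e : F.map (kernel.map α β u v w) = (PreservesKernel.iso F α).hom ≫
      kernel.map (F.map α) (F.map β) (F.map u) (F.map v) (by rw [← F.map_comp, w, F.map_comp]) ≫
      (PreservesKernel.iso F β).inv := by
    rw [← Category.assoc, ← cancel_mono (PreservesKernel.iso F β).hom, Category.assoc, Category.assoc,
      Iso.inv_hom_id, Category.comp_id]
    refine (cancel_mono (kernel.ι (F.map β))).1 ?_
    simp only [PreservesKernel.iso_hom, Category.assoc, kernel.map, kernel.lift_ι, kernelComparison_comp_ι,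
      kernelComparison_comp_ι_assoc, ← F.map_comp]
  rw [e]
  infer_instance

variable {S : Scheme.{u}}

/-- The middle term of five is quasi-coherent. -/
theorem isQCoh_mid {A B C D E : S.Modules} (a : A ⟶ B) (b : B ⟶ C) (c : C ⟶ D) (d : D ⟶ E)
    (hab : a ≫ b = 0) (hbc : b ≫ c = 0) (hcd : c ≫ d = 0)
    (e1 : (ShortComplex.mk a b hab).Exact) (e2 : (ShortComplex.mk b c hbc).Exact) (e3 : (ShortComplex.mk c d hcd).Exact)
    (hA : A.IsQuasicoherent) (hB : B.IsQuasicoherent) (hD : D.IsQuasicoherent) (hE : E.IsQuasicoherent) :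
    C.IsQuasicoherent := by
  haveI := QCohLib.isQuasicoherent_cokernel a
  haveI := QCohLib.isQuasicoherent_kernel d
  haveI : Mono (cokernel.desc a b hab) := (ShortComplex.exact_iff_mono_cokernel_desc (ShortComplex.mk a b hab)).1 e1
  haveI : Epi (kernel.lift d c hcd) :=
    (ShortComplex.exact_iff_epi_kernel_lift (ShortComplex.mk c d hcd)).1 e3
  have hz : b ≫ kernel.lift d c hcd = 0 := by
    rw [← cancel_mono (kernel.ι d), Category.assoc, kernel.lift_ι, hbc, zero_comp]
  have hz' : cokernel.desc a b hab ≫ kernel.lift d c hcd = 0 := by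
    rw [← cancel_epi (cokernel.π a), cokernel.π_desc_assoc, hz, comp_zero]
  let S' := ShortComplex.mk (cokernel.desc a b hab) (kernel.lift d c hcd) hz'
  let T := ShortComplex.mk b (kernel.lift d c hcd) hz
  have hT : T.Exact := by
    let φ : T ⟶ ShortComplex.mk b c hbc :=
      { τ₁ := 𝟙 _, τ₂ := 𝟙 _, τ₃ := kernel.ι d
        comm₁₂ := (Category.id_comp _).trans (Category.comp_id _).symm
        comm₂₃ := (Category.id_comp _).trans (kernel.lift_ι d c hcd).symm }
    haveI : IsIso φ.τ₂ := inferInstanceAs (IsIso (𝟙 _))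
    haveI : Epi φ.τ₁ := inferInstanceAs (Epi (𝟙 _))
    haveI : Mono φ.τ₃ := inferInstanceAs (Mono (kernel.ι d))
    exact (ShortComplex.exact_iff_of_epi_of_isIso_of_mono φ).2 e2
  have hS' : S'.Exact := by
    let φ : T ⟶ S' :=
      { τ₁ := cokernel.π a, τ₂ := 𝟙 _, τ₃ := 𝟙 _
        comm₁₂ := (cokernel.π_desc a b hab).trans (Category.comp_id _).symm
        comm₂₃ := (Category.id_comp _).trans (Category.comp_id _).symm }
    haveI : IsIso φ.τ₂ := inferInstanceAs (IsIso (𝟙 _))
    haveI : Epi φ.τ₁ := inferInstanceAs (Epi (cokernel.π a))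
    haveI : Mono φ.τ₃ := inferInstanceAs (Mono (𝟙 _))
    exact (ShortComplex.exact_iff_of_epi_of_isIso_of_mono φ).1 hT
  exact QCohLib.isQuasicoherent_of_extension S' { exact := hS' }

/-- For a square of complexes with epimorphic horizontal maps and isomorphic kernels, the upper left
corner has quasi-coherent homology if the others do. -/
theorem isQCoh_homology_of_square {A B C D : CochainComplex S.Modules ℤ} (α : A ⟶ B) (β : C ⟶ D)
    (u : A ⟶ C) (v : B ⟶ D) (w : α ≫ v = u ≫ β) (hα : ∀ i, Epi (α.f i)) (hβ : ∀ i, Epi (β.f i))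
    (hk : ∀ i, IsIso (kernel.map (α.f i) (β.f i) (u.f i) (v.f i)
      (by rw [← HomologicalComplex.comp_f, w, HomologicalComplex.comp_f])))
    (hB : ∀ n, (B.homology n).IsQuasicoherent) (hC : ∀ n, (C.homology n).IsQuasicoherent)
    (hD : ∀ n, (D.homology n).IsQuasicoherent) (n : ℤ) : (A.homology n).IsQuasicoherent := by
  haveI := HomologicalComplex.epi_of_epi_f α hα
  haveI := HomologicalComplex.epi_of_epi_f β hβ
  haveI : IsIso (kernel.map α β u v w) := by
    haveI : ∀ i, IsIso ((kernel.map α β u v w).f i) := fun i =>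
      isIso_map_kernel_map (HomologicalComplex.eval S.Modules (ComplexShape.up ℤ) i) α β u v w (hk i)
    exact HomologicalComplex.Hom.isIso_of_components _
  let S₁ : ShortComplex (CochainComplex S.Modules ℤ) := ShortComplex.mk (kernel.ι α) α (kernel.condition α)
  let S₂ : ShortComplex (CochainComplex S.Modules ℤ) := ShortComplex.mk (kernel.ι β) β (kernel.condition β)
  have h₁ : S₁.ShortExact := { exact := ShortComplex.exact_kernel α }
  have h₂ : S₂.ShortExact := { exact := ShortComplex.exact_kernel β }
  have hK : ∀ m, ((kernel α).homology m).IsQuasicoherent := fun m => by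
    have := isQCoh_mid _ _ _ _ _ _ _ (h₂.homology_exact₃ (m - 1) m (by simp))
      (h₂.homology_exact₁ (m - 1) m (by simp)) (h₂.homology_exact₂ m) (hC (m - 1)) (hD (m - 1)) (hC m) (hD m)
    exact @QCohLib.isQuasicoherent_of_iso _ _ _
      ((HomologicalComplex.homologyFunctor S.Modules (ComplexShape.up ℤ) m).mapIso (asIso (kernel.map α β u v w))).symm this
  exact isQCoh_mid _ _ _ _ _ _ _ (h₁.homology_exact₁ (n - 1) n (by simp)) (h₁.homology_exact₂ n)
    (h₁.homology_exact₃ n (n + 1) (by simp)) (hB (n - 1)) (hK n) (hB n) (hK (n + 1))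

/-- For a square of complexes with epimorphic horizontal maps and isomorphic kernels whose lower row is
acyclic, the upper map is a quasi-isomorphism. -/
theorem isIso_homologyMap_of_square {A B C D : CochainComplex S.Modules ℤ} (α : A ⟶ B) (β : C ⟶ D)
    (u : A ⟶ C) (v : B ⟶ D) (w : α ≫ v = u ≫ β) (hα : ∀ i, Epi (α.f i)) (hβ : ∀ i, Epi (β.f i))
    (hk : ∀ i, IsIso (kernel.map (α.f i) (β.f i) (u.f i) (v.f i)
      (by rw [← HomologicalComplex.comp_f, w, HomologicalComplex.comp_f])))
    (hC : ∀ n, IsZero (C.homology n)) (hD : ∀ n, IsZero (D.homology n)) (n : ℤ) :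
    IsIso (HomologicalComplex.homologyMap α n) := by
  haveI := HomologicalComplex.epi_of_epi_f α hα
  haveI := HomologicalComplex.epi_of_epi_f β hβ
  haveI : IsIso (kernel.map α β u v w) := by
    haveI : ∀ i, IsIso ((kernel.map α β u v w).f i) := fun i =>
      isIso_map_kernel_map (HomologicalComplex.eval S.Modules (ComplexShape.up ℤ) i) α β u v w (hk i)
    exact HomologicalComplex.Hom.isIso_of_components _
  let S₁ : ShortComplex (CochainComplex S.Modules ℤ) := ShortComplex.mk (kernel.ι α) α (kernel.condition α)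
  let S₂ : ShortComplex (CochainComplex S.Modules ℤ) := ShortComplex.mk (kernel.ι β) β (kernel.condition β)
  have h₁ : S₁.ShortExact := { exact := ShortComplex.exact_kernel α }
  have h₂ : S₂.ShortExact := { exact := ShortComplex.exact_kernel β }
  have hK : ∀ m, IsZero ((kernel α).homology m) := fun m => by
    have h := (h₂.homology_exact₁ (m - 1) m (by simp)).isZero_X₂ ((hD (m - 1)).eq_of_src _ _) ((hC m).eq_of_tgt _ _)
    exact h.of_iso ((HomologicalComplex.homologyFunctor S.Modules (ComplexShape.up ℤ) m).mapIso (asIso (kernel.map α β u v w)))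
  haveI : Mono (HomologicalComplex.homologyMap α n) :=
    (h₁.homology_exact₂ n).mono_g ((hK n).eq_of_src _ _)
  haveI : Epi (HomologicalComplex.homologyMap α n) :=
    (h₁.homology_exact₃ n (n + 1) (by simp)).epi_f ((hK (n + 1)).eq_of_tgt _ _)
  exact isIso_of_mono_of_epi _

end Groth.Agent.HigherDirect
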