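import Groth.Agent.ModGroth.Basic
import Groth.Prelude.Def_Coh
import Mathlib.Topology.Sheaves.Flasque

/-!
# Injective O-modules are flasque
-/

set_option autoImplicit false
set_option linter.style.haveILetI false
set_option backward.isDefEq.respectTransparency false
universe u

open CategoryTheory CategoryTheory.Limits AlgebraicGeometry Opposite TopologicalSpace

namespace Groth.Agent.HigherDirect

theorem enoughInjectives_modules (X : Scheme.{u}) : EnoughInjectives X.Modules :=
  ModGroth.sheaf_enoughInjectives X.ringCatSheaf

theorem hasInjectiveResolutions_modules (X : Scheme.{u}) : HasInjectiveResolutions X.Modules :=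
  ModGroth.sheaf_hasInjectiveResolutions X.ringCatSheaf

/-- Sections of an injective sheaf of modules extend. -/
theorem res_surjective_of_injective {C : Type u} [SmallCategory C] [Quiver.IsThin C]
    {J : GrothendieckTopology C} {R : Sheaf J RingCat.{u}}
    (I : SheafOfModules.{u} R) [Injective I] {U V : C} (i : U ⟶ V) :
    Function.Surjective (I.val.presheaf.map i.op).hom := by
  intro s
  let adj := PresheafOfModules.sheafificationAdjunction.{u} (𝟙 R.obj)
  haveI : Injective I.val := adj.map_injective I inferInstance
  let P : C → PresheafOfModules.{u} R.obj := fun W => (PresheafOfModules.free R.obj).obj (yoneda.obj W)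
  let m : P U ⟶ P V := (PresheafOfModules.free R.obj).map (yoneda.map i)
  haveI : Mono m := by
    haveI : ∀ W, Mono (((PresheafOfModules.toPresheaf R.obj).map m).app W) := fun W => by
      rw [AddCommGrpCat.mono_iff_injective]
      exact Finsupp.mapDomain_injective fun a b _ => Subsingleton.elim a b
    haveI := NatTrans.mono_of_mono_app ((PresheafOfModules.toPresheaf R.obj).map m)
    exact (PresheafOfModules.toPresheaf R.obj).mono_of_mono_map this
  let e : P U ⟶ I.val := PresheafOfModules.freeYonedaEquiv.symm s
  let γ : P V ⟶ I.val := Injective.factorThru e m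
  have hγ : m ≫ γ = e := Injective.comp_factorThru e m
  refine ⟨γ.app (op V) (ModuleCat.freeMk (R := R.obj.obj (op V)) (X := (yoneda.obj V).obj (op V)) (𝟙 V)), ?_⟩
  refine (PresheafOfModules.naturality_apply γ i.op _).symm.trans ?_
  refine Eq.trans ?_ (PresheafOfModules.freeYonedaEquiv_symm_app I.val U s)
  have hA : (P V).map i.op (ModuleCat.freeMk (R := R.obj.obj (op V)) (X := (yoneda.obj V).obj (op V)) (𝟙 V)) =
      m.app (op U) (ModuleCat.freeMk (R := R.obj.obj (op U)) (X := (yoneda.obj U).obj (op U)) (𝟙 U)) := by
    have hb := ModuleCat.free_map_apply (R := R.obj.obj (op U)) ((yoneda.map i).app (op U))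
      (show (yoneda.obj U).obj (op U) from 𝟙 U)
    have ha := ConcreteCategory.congr_hom ((PresheafOfModules.freeAdjunctionUnit R.obj (yoneda.obj V)).naturality i.op)
      (show (yoneda.obj V).obj (op V) from 𝟙 V)
    have hi : (yoneda.obj V).map i.op (show (yoneda.obj V).obj (op V) from 𝟙 V) =
        (yoneda.map i).app (op U) (show (yoneda.obj U).obj (op U) from 𝟙 U) := Subsingleton.elim (α := U ⟶ V) _ _
    exact ha.symm.trans ((congrArg (fun a => ModuleCat.freeMk (R := R.obj.obj (op U)) a) hi).trans hb.symm)
  exact (congrArg (γ.app (op U)) hA).trans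
    (congrArg (fun q : P U ⟶ I.val => q.app (op U) (ModuleCat.freeMk (R := R.obj.obj (op U)) (X := (yoneda.obj U).obj (op U)) (𝟙 U))) hγ)

theorem isFlasque_toAb_of_injective {X : Scheme.{u}} (I : X.Modules) [Injective I] :
    TopCat.Sheaf.IsFlasque (Coh.toAb I) where
  epi {U V} i := by
    rw [AddCommGrpCat.epi_iff_surjective]
    exact @res_surjective_of_injective (TopologicalSpace.Opens X) _ _ _ X.ringCatSheaf I ‹_› V.unop U.unop i.unop

end Groth.Agent.HigherDirect
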