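import Groth.Agent.KerDerived.LocCohSeq

/-!
# Vanishing of higher direct images of abelian sheaves from vanishing over the preimages of a basis
-/

set_option autoImplicit false
set_option linter.style.haveILetI false
set_option backward.isDefEq.respectTransparency false
set_option backward.isDefEq.respectTransparency.types false
universe u

open CategoryTheory CategoryTheory.Limits Opposite TopologicalSpace Abelian

namespace Groth.Agent.HigherDirect

open Groth.Agent.CohVanish Groth.Agent.KerDerived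

variable {X Y : TopCat.{u}} (f : X ⟶ Y) {ι : Type*} (B : ι → Opens Y)

/-- If `H^(n+1)` vanishes over the preimages of small enough neighbourhoods of `y`, every section of
`R^(n+1) f_*` vanishes near `y`. -/
theorem exists_res_eq_zero (hB : Opens.IsBasis (Set.range B)) (V : Opens Y) : ∀ (n : ℕ) (F : CohTop.Ab X),
    (∀ i, B i ≤ V → Subsingleton (EU F ((Opens.map f).obj (B i)) (n + 1))) →
    ∀ (U : Opens Y) (s : ((CohTop.Rpush f (n + 1)).obj F).obj.obj (op U)) (y : Y), y ∈ U → y ∈ V →
      ∃ (W : Opens Y) (h : W ≤ U), y ∈ W ∧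
        (((CohTop.Rpush f (n + 1)).obj F).obj.map (homOfLE h).op).hom s = 0 := by
  haveI := preservesFiniteLimits_push f
  haveI := push_additive f
  intro n
  induction n with
  | zero =>
    intro F hF U s y hy hyV
    let P := CohTop.push f
    let p := P.rightDerivedZeroIsoSelf.inv.app (emb F).X₃ ≫ dl P 0 F
    have h0 : P.map (emb F).g ≫ p = 0 := (dl_desc_iff₀ P F p).1 ⟨𝟙 _, Category.comp_id _⟩
    have hp : TopCat.Presheaf.IsLocallySurjective p.hom :=
      (TopCat.Sheaf.isLocallySurjective_iff_epi p).2 inferInstance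
    obtain ⟨W₁, hW₁, ⟨q, hq⟩, hyW₁⟩ := (TopCat.Presheaf.isLocallySurjective_iff p.hom).1 hp U s y hy
    obtain ⟨_, ⟨i, rfl⟩, hyi, hi⟩ := Opens.isBasis_iff_nbhd.mp hB (U := W₁ ⊓ V) (x := y) ⟨hyW₁, hyV⟩
    have hiW : B i ≤ W₁ := hi.trans inf_le_left
    haveI : Subsingleton (EU (emb F).X₁ ((Opens.map f).obj (B i)) 1) := hF i (hi.trans inf_le_right)
    obtain ⟨t, ht⟩ := surjective_app_of_subsingleton (emb_shortExact F) ((Opens.map f).obj (B i))
      ((P.obj (emb F).X₃).obj.map (homOfLE hiW).op q)
    refine ⟨B i, hiW.trans hW₁, hyi, ?_⟩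
    have h1 : (p.hom.app (op (B i))).hom ((P.obj (emb F).X₃).obj.map (homOfLE hiW).op q) = 0 := by
      rw [← ht]
      exact ConcreteCategory.congr_hom (NatTrans.congr_app
        (congrArg (fun z : P.obj (emb F).X₂ ⟶ (CohTop.Rpush f (0 + 1)).obj F => z.hom) h0) (op (B i))) t
    refine Eq.trans ?_ h1
    refine Eq.trans ?_ (ConcreteCategory.congr_hom (p.hom.naturality (homOfLE hiW).op) q).symm
    refine Eq.trans ?_ (congrArg (((CohTop.Rpush f (0 + 1)).obj F).obj.map (homOfLE hiW).op).hom hq.symm)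
    exact ConcreteCategory.congr_hom
      (((CohTop.Rpush f (0 + 1)).obj F).obj.map_comp (homOfLE hW₁).op (homOfLE hiW).op) s
  | succ n ih =>
    intro F hF U s y hy hyV
    let e := (asIso (dl (CohTop.push f) (n + 1) F))
    have hQ : ∀ i, B i ≤ V → Subsingleton (EU (emb F).X₃ ((Opens.map f).obj (B i)) (n + 1)) := fun i hi => by
      haveI : Subsingleton (EU (emb F).X₁ ((Opens.map f).obj (B i)) (n + 1 + 1)) := hF i hi
      exact (eDelta_injective (emb_shortExact F) ((Opens.map f).obj (B i)) (n + 1)).subsingleton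
    obtain ⟨W, h, hyW, hs⟩ := ih (emb F).X₃ hQ U ((e.inv.hom.app (op U)).hom s) y hy hyV
    refine ⟨W, h, hyW, ?_⟩
    have h1 := (ConcreteCategory.congr_hom (e.inv.hom.naturality (homOfLE h).op) s).trans hs
    have h2 := congrArg (e.hom.hom.app (op W)).hom h1
    rw [map_zero] at h2
    refine Eq.trans ?_ h2
    exact (ConcreteCategory.congr_hom (NatTrans.congr_app (congrArg (fun z :
      (CohTop.Rpush f (n + 1 + 1)).obj F ⟶ (CohTop.Rpush f (n + 1 + 1)).obj F => z.hom) e.inv_hom_id) (op W)) _).symm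

/-- Stalk version. -/
theorem isZero_stalk_Rpush (hB : Opens.IsBasis (Set.range B)) (V : Opens Y) (n : ℕ) (F : CohTop.Ab X)
    (hF : ∀ i, B i ≤ V → Subsingleton (EU F ((Opens.map f).obj (B i)) (n + 1))) (y : Y) (hy : y ∈ V) :
    IsZero (TopCat.Presheaf.stalk ((CohTop.Rpush f (n + 1)).obj F).obj y) := by
  let R : TopCat.Presheaf AddCommGrpCat.{u} Y := ((CohTop.Rpush f (n + 1)).obj F).obj
  have : Subsingleton (R.stalk y) :=
    subsingleton_of_forall_eq 0 fun z => by
      obtain ⟨U, hU, s, rfl⟩ := TopCat.Presheaf.exists_germ_eq R z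
      obtain ⟨W, h, hyW, hs⟩ := exists_res_eq_zero f B hB V n F hF U s y hU hy
      refine (TopCat.Presheaf.germ_res_apply R (homOfLE h) y hyW s).symm.trans ?_
      exact (congrArg _ hs).trans (map_zero _)
  exact @AddCommGrpCat.isZero_of_subsingleton _ this

/-- Higher direct images vanish if cohomology vanishes over the preimages of a basis. -/
theorem isZero_Rpush (hB : Opens.IsBasis (Set.range B)) (n : ℕ) (F : CohTop.Ab X)
    (hF : ∀ i, Subsingleton (EU F ((Opens.map f).obj (B i)) (n + 1))) :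
    IsZero ((CohTop.Rpush f (n + 1)).obj F) := by
  rw [IsZero.iff_id_eq_zero]
  apply ObjectProperty.hom_ext
  refine NatTrans.ext (funext fun U => ?_)
  ext s
  refine TopCat.Presheaf.section_ext ((CohTop.Rpush f (n + 1)).obj F) U.unop _ _ fun y hy => ?_
  haveI := AddCommGrpCat.subsingleton_of_isZero (isZero_stalk_Rpush f B hB ⊤ n F (fun i _ => hF i) y trivial)
  exact Subsingleton.elim _ _

end Groth.Agent.HigherDirect
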