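import Groth.Agent.HigherDirect.QCohGlobal
import Groth.Agent.CohFinite.HHFinite

/-!
# Finiteness of global sections of higher direct images on an affine base
-/

set_option autoImplicit false
set_option linter.style.haveILetI false
set_option backward.isDefEq.respectTransparency false
set_option backward.isDefEq.respectTransparency.types false
universe u

open CategoryTheory CategoryTheory.Limits AlgebraicGeometry Opposite TopologicalSpace Abelian

namespace Groth.Agent.HigherDirect

open Groth.Agent.CohVanish Groth.Agent.CohFinite Groth.Agent.CechCmp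

variable {X S : Scheme.{u}} (f : X ⟶ S)

/-- The global functions of the base, on `X`. -/
noncomputable abbrev baseAct : Γ(S, ⊤) →+* Coh.Γtop X := f.appTop.hom

/-- A map of modules on sections, linearly. -/
noncomputable def appLin {Y : Scheme.{u}} {A B : Y.Modules} (ψ : A ⟶ B) (U : Y.Opens) :
    Γ(A, U) →ₗ[Γ(Y, U)] Γ(B, U) where
  toFun := ψ.app U
  map_add' := map_add (ψ.app U).hom
  map_smul' a x := ψ.app_smul a x

theorem baseAct_app (M : X.Modules) (a : Γ(S, ⊤)) (x : Γ((Scheme.Modules.pushforward f).obj M, ⊤)) :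
    ((modRSh (baseAct f) M).act a).hom.app (op ((Opens.map f.base).obj ⊤)) x = a • x := by
  show (Coh.smulAb M (baseAct f a)).hom.app (op ((Opens.map f.base).obj ⊤)) x = a • x
  rw [Coh.smulAb_app]
  refine congrArg (fun r : Γ(X, f ⁻¹ᵁ ⊤) => r • (show Γ(M, f ⁻¹ᵁ ⊤) from x)) ?_
  exact ConcreteCategory.congr_hom (X.presheaf.map_id (op (f ⁻¹ᵁ ⊤))) (f.appTop a)

/-- Degree zero cohomology is sections. -/
noncomputable def h0Lin (M : X.Modules) :
    Γ((Scheme.Modules.pushforward f).obj M, ⊤) ≃ₗ[Γ(S, ⊤)] HMod (modRSh (baseAct f) M) ((Opens.map f.base).obj ⊤) 0 :=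
  (AddEquiv.toLinearEquiv
    (show HMod (modRSh (baseAct f) M) ((Opens.map f.base).obj ⊤) 0 ≃+ Γ((Scheme.Modules.pushforward f).obj M, ⊤)
      from eu0 (X := sp X) ((Opens.map f.base).obj ⊤) (Coh.toAb M))
    (fun a x => (eu0_eMap (X := sp X) ((modRSh (baseAct f) M).act a) ((Opens.map f.base).obj ⊤) x).trans
      (baseAct_app f M a _))).symm

variable [HasInjectiveResolutions X.Modules] [IsAffine S]

/-- The higher direct images are acyclic and the direct image as well. -/
def Acyc (M : X.Modules) : Prop :=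
  (∀ m, Subsingleton (EU (X := sp S) (Coh.toAb ((Scheme.Modules.pushforward f).obj M)) ⊤ (m + 1))) ∧
    ∀ r, ((Coh.Rpush f (r + 1)).obj M).IsQuasicoherent

theorem subsingleton_of_isQuasicoherent {R : S.Modules} (h : R.IsQuasicoherent) (m : ℕ) :
    Subsingleton (EU (X := sp S) (Coh.toAb R) ⊤ (m + 1)) :=
  haveI := h
  subsingleton_EU_of_isAffineOpen R (isAffineOpen_top S) m

theorem finite_sections_rpush_aux : ∀ (q : ℕ) (M : X.Modules), Acyc f M →
    Module.Finite Γ(S, ⊤) (HMod (modRSh (baseAct f) M) ((Opens.map f.base).obj ⊤) (q + 1)) →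
    Module.Finite Γ(S, ⊤) Γ((Coh.Rpush f (q + 1)).obj M, ⊤) := by
  haveI := enoughInjectives_modules X
  haveI := preservesFiniteLimits_pushforward f
  intro q
  induction q with
  | zero =>
    intro M hM hfin
    let P := Scheme.Modules.pushforward f
    let E := KerDerived.emb M
    let U0 : X.Opens := (Opens.map f.base).obj ⊤
    let p := P.rightDerivedZeroIsoSelf.inv.app E.X₃ ≫ KerDerived.dl P 0 M
    have h0 : P.map E.g ≫ p = 0 := (KerDerived.dl_desc_iff₀ P M p).1 ⟨𝟙 _, Category.comp_id _⟩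
    haveI : Epi p := epi_comp _ _
    let S1 := ShortComplex.mk (kernel.ι p) p (kernel.condition p)
    have hS1 : S1.ShortExact := { exact := ShortComplex.exact_kernel p }
    let b : P.obj E.X₂ ⟶ kernel p := kernel.lift p _ h0
    haveI : Epi b := (ShortComplex.exact_iff_epi_kernel_lift (ShortComplex.mk (P.map E.g) p h0)).1
      (ShortComplex.exact_of_g_is_cokernel _ (CokernelCofork.IsColimit.ofπ p h0
        (fun k hk => ((KerDerived.dl_desc_iff₀ P M k).2 hk).choose)
        (fun k hk => ((KerDerived.dl_desc_iff₀ P M k).2 hk).choose_spec)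
        (fun k hk m hm => (cancel_epi p).1 (hm.trans ((KerDerived.dl_desc_iff₀ P M k).2 hk).choose_spec.symm))))
    have hb0 : P.map E.f ≫ b = 0 := by
      refine (cancel_mono (kernel.ι p)).1 ?_
      rw [Category.assoc, kernel.lift_ι, ← P.map_comp, E.zero, P.map_zero, zero_comp]
    let S2 := ShortComplex.mk (P.map E.f) b hb0
    have hS2 : S2.ShortExact := by
      haveI := (KerDerived.emb_shortExact M).mono_f
      refine { exact := ?_, mono_f := P.map_mono E.f, epi_g := inferInstanceAs (Epi b) }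
      let φ : S2 ⟶ E.map P :=
        { τ₁ := 𝟙 _, τ₂ := 𝟙 _, τ₃ := kernel.ι p
          comm₁₂ := (Category.id_comp _).trans (Category.comp_id _).symm
          comm₂₃ := (Category.id_comp _).trans (kernel.lift_ι p _ h0).symm }
      haveI : IsIso φ.τ₂ := inferInstanceAs (IsIso (𝟙 _))
      haveI : Epi φ.τ₁ := inferInstanceAs (Epi (𝟙 _))
      haveI : Mono φ.τ₃ := inferInstanceAs (Mono (kernel.ι p))
      exact (ShortComplex.exact_iff_of_epi_of_isIso_of_mono φ).2
        ((KerDerived.emb_shortExact M).exact.map_of_mono_of_preservesKernel P (KerDerived.emb_shortExact M).mono_f inferInstance)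
    haveI : TopCat.Sheaf.IsFlasque (Coh.toAb E.X₂) := isFlasque_toAb_of_injective E.X₂
    haveI : TopCat.Sheaf.IsFlasque (S2.map (toAbF S)).X₂ :=
      TopCat.Sheaf.IsFlasque.pushforward_isFlasque (Coh.toAb E.X₂) f.base
    haveI : Subsingleton (EU (X := sp S) (S2.map (toAbF S)).X₂ ⊤ (0 + 1)) := subsingleton_of_flasque _ _ _
    haveI : Subsingleton (EU (X := sp S) (S2.map (toAbF S)).X₁ ⊤ (0 + 1 + 1)) := hM.1 1
    haveI : Subsingleton (EU (X := sp S) (S1.map (toAbF S)).X₁ ⊤ 1) :=
      (eDelta_injective (shortExact_toAb hS2) (⊤ : S.Opens) 1).subsingleton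
    let E' := modSES (baseAct f) E (KerDerived.emb_shortExact M)
    let ψ : Γ(P.obj E.X₃, ⊤) →ₗ[Γ(S, ⊤)] HMod (modRSh (baseAct f) M) U0 1 :=
      (E'.delta U0 0).comp (h0Lin f E.X₃).toLinearMap
    let π : Γ(P.obj E.X₃, ⊤) →ₗ[Γ(S, ⊤)] Γ((Coh.Rpush f 1).obj M, ⊤) := appLin p ⊤
    have hπ : Function.Surjective π := surjective_app_of_subsingleton (shortExact_toAb hS1) (⊤ : S.Opens)
    haveI : Subsingleton (EU (X := sp X) (E.map (toAbF X)).X₂ U0 (0 + 1)) :=
      subsingleton_of_flasque (Coh.toAb E.X₂) _ _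
    have hψ : Function.Surjective ψ :=
      (eDelta_surjective (shortExact_toAb (KerDerived.emb_shortExact M)) U0 0).comp (h0Lin f E.X₃).surjective
    have hker : LinearMap.ker ψ ≤ LinearMap.ker π := by
      intro z hz
      obtain ⟨t, ht⟩ := (eDelta_zero_eq_zero (shortExact_toAb (KerDerived.emb_shortExact M)) U0 _).1 hz
      have ht' : (P.map E.g).app ⊤ t = z := ht.trans ((h0Lin f E.X₃).symm_apply_apply z)
      rw [LinearMap.mem_ker, ← ht']
      exact congr(($h0).app ⊤ t)
    haveI := hfin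
    haveI : Module.Finite Γ(S, ⊤) (Γ(P.obj E.X₃, ⊤) ⧸ LinearMap.ker ψ) :=
      Module.Finite.equiv (ψ.quotKerEquivOfSurjective hψ).symm
    exact Module.Finite.of_surjective ((LinearMap.ker ψ).liftQ π hker) fun r => by
      obtain ⟨z, rfl⟩ := hπ r
      exact ⟨Submodule.Quotient.mk z, rfl⟩
  | succ q ih =>
    intro M hM hfin
    let P := Scheme.Modules.pushforward f
    let E := KerDerived.emb M
    have hQ : Acyc f E.X₃ := by
      refine ⟨fun m => ?_, fun r => @QCohLib.isQuasicoherent_of_iso _ _ _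
        (asIso (KerDerived.dl P (r + 1) M)).symm (hM.2 (r + 1))⟩
      let p := P.rightDerivedZeroIsoSelf.inv.app E.X₃ ≫ KerDerived.dl P 0 M
      have h0 : P.map E.g ≫ p = 0 := (KerDerived.dl_desc_iff₀ P M p).1 ⟨𝟙 _, Category.comp_id _⟩
      haveI : Epi p := epi_comp _ _
      let S1 := ShortComplex.mk (kernel.ι p) p (kernel.condition p)
      have hS1 : S1.ShortExact := { exact := ShortComplex.exact_kernel p }
      let b : P.obj E.X₂ ⟶ kernel p := kernel.lift p _ h0
      haveI : Epi b := (ShortComplex.exact_iff_epi_kernel_lift (ShortComplex.mk (P.map E.g) p h0)).1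
        (ShortComplex.exact_of_g_is_cokernel _ (CokernelCofork.IsColimit.ofπ p h0
          (fun k hk => ((KerDerived.dl_desc_iff₀ P M k).2 hk).choose)
          (fun k hk => ((KerDerived.dl_desc_iff₀ P M k).2 hk).choose_spec)
          (fun k hk n hm => (cancel_epi p).1 (hm.trans ((KerDerived.dl_desc_iff₀ P M k).2 hk).choose_spec.symm))))
      have hb0 : P.map E.f ≫ b = 0 := by
        refine (cancel_mono (kernel.ι p)).1 ?_
        rw [Category.assoc, kernel.lift_ι, ← P.map_comp, E.zero, P.map_zero, zero_comp]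
      let S2 := ShortComplex.mk (P.map E.f) b hb0
      have hS2 : S2.ShortExact := by
        haveI := (KerDerived.emb_shortExact M).mono_f
        refine { exact := ?_, mono_f := P.map_mono E.f, epi_g := inferInstanceAs (Epi b) }
        let φ : S2 ⟶ E.map P :=
          { τ₁ := 𝟙 _, τ₂ := 𝟙 _, τ₃ := kernel.ι p
            comm₁₂ := (Category.id_comp _).trans (Category.comp_id _).symm
            comm₂₃ := (Category.id_comp _).trans (kernel.lift_ι p _ h0).symm }
        haveI : IsIso φ.τ₂ := inferInstanceAs (IsIso (𝟙 _))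
        haveI : Epi φ.τ₁ := inferInstanceAs (Epi (𝟙 _))
        haveI : Mono φ.τ₃ := inferInstanceAs (Mono (kernel.ι p))
        exact (ShortComplex.exact_iff_of_epi_of_isIso_of_mono φ).2
          ((KerDerived.emb_shortExact M).exact.map_of_mono_of_preservesKernel P (KerDerived.emb_shortExact M).mono_f inferInstance)
      haveI : TopCat.Sheaf.IsFlasque (Coh.toAb E.X₂) := isFlasque_toAb_of_injective E.X₂
      haveI : TopCat.Sheaf.IsFlasque (S2.map (toAbF S)).X₂ :=
        TopCat.Sheaf.IsFlasque.pushforward_isFlasque (Coh.toAb E.X₂) f.base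
      haveI : Subsingleton (EU (X := sp S) (S2.map (toAbF S)).X₂ ⊤ (m + 1)) := subsingleton_of_flasque _ _ _
      haveI : Subsingleton (EU (X := sp S) (S2.map (toAbF S)).X₁ ⊤ (m + 1 + 1)) := hM.1 (m + 1)
      haveI hK : Subsingleton (EU (X := sp S) (S1.map (toAbF S)).X₁ ⊤ (m + 1)) :=
        (eDelta_injective (shortExact_toAb hS2) (⊤ : S.Opens) (m + 1)).subsingleton
      haveI : Subsingleton (EU (X := sp S) (S1.map (toAbF S)).X₃ ⊤ (m + 1)) := subsingleton_of_isQuasicoherent (hM.2 0) m
      refine subsingleton_of_forall_eq 0 fun x => ?_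
      obtain ⟨y, hy⟩ := (eMap_g_eq_zero_iff (shortExact_toAb hS1) (⊤ : S.Opens) (m + 1) x).1 (Subsingleton.elim _ _)
      rw [← hy, Subsingleton.elim y 0, map_zero]
    let U0 : X.Opens := (Opens.map f.base).obj ⊤
    haveI : TopCat.Sheaf.IsFlasque (Coh.toAb E.X₂) := isFlasque_toAb_of_injective E.X₂
    haveI : ∀ n, Subsingleton (EU (X := sp X) (E.map (toAbF X)).X₂ U0 (n + 1)) :=
      fun n => subsingleton_of_flasque (Coh.toAb E.X₂) _ _
    let E' := modSES (baseAct f) E (KerDerived.emb_shortExact M)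
    haveI : Module.Finite Γ(S, ⊤) (HMod (modRSh (baseAct f) E.X₃) U0 (q + 1)) :=
      @Module.Finite.equiv _ _ _ _ _ _ _ _ hfin (LinearEquiv.ofBijective (E'.delta U0 (q + 1))
        ⟨eDelta_injective (shortExact_toAb (KerDerived.emb_shortExact M)) U0 (q + 1),
          eDelta_surjective (shortExact_toAb (KerDerived.emb_shortExact M)) U0 (q + 1)⟩).symm
    haveI := ih E.X₃ hQ this
    exact Module.Finite.of_surjective (appLin (KerDerived.dl P (q + 1) M) ⊤)
      (ConcreteCategory.bijective_of_isIso ((KerDerived.dl P (q + 1) M).app ⊤)).2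

end Groth.Agent.HigherDirect
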