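import Groth.Agent.HigherDirect.ModCmp
import Groth.Agent.SSExist.SiteSheaf
import Groth.Agent.QCohLib.Closure
import Groth.Agent.QCohLib.Criterion

/-!
# The functors `M ↦ j_* (M|_W)` and Mayer–Vietoris squares of injective modules
-/

set_option autoImplicit false
set_option linter.style.haveILetI false
set_option backward.isDefEq.respectTransparency false
set_option backward.isDefEq.respectTransparency.types false
universe u

open CategoryTheory CategoryTheory.Limits AlgebraicGeometry Opposite TopologicalSpace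

namespace Groth.Agent.HigherDirect

variable {X : Scheme.{u}}

/-- `W ⊓ O` in the form of an image of a preimage. -/
abbrev im (W O : X.Opens) : X.Opens := W.ι ''ᵁ W.ι ⁻¹ᵁ O

theorem im_eq (W O : X.Opens) : im W O = W ⊓ O := by
  show W.ι ''ᵁ W.ι ⁻¹ᵁ O = _
  rw [Scheme.Hom.image_preimage_eq_opensRange_inf, Scheme.Opens.opensRange_ι]

/-- `M ↦ j_* (M|_W)`. -/
noncomputable abbrev J (W : X.Opens) : X.Modules ⥤ X.Modules :=
  Scheme.Modules.restrictFunctor W.ι ⋙ Scheme.Modules.pushforward W.ι

/-- The restriction map `M ⟶ j_* (M|_W)`. -/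
noncomputable abbrev η (W : X.Opens) : 𝟭 X.Modules ⟶ J W := (Scheme.Modules.restrictAdjunction W.ι).unit

theorem isIso_res (M : X.Modules) {a b : X.Opens} (h : a ≤ b) (h' : b ≤ a) :
    IsIso (M.presheaf.map (homOfLE h).op) := by
  haveI : IsIso (homOfLE h) := ⟨homOfLE h', rfl, rfl⟩
  infer_instance

theorem η_app (W : X.Opens) (M : X.Modules) (O : X.Opens) :
    ((η W).app M).app O = M.presheaf.map (homOfLE (W.ι.image_preimage_le O)).op := rfl

theorem η_app_isIso (W : X.Opens) (M : X.Modules) {O : X.Opens} (h : O ≤ W) :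
    IsIso (((η W).app M).app O) := by
  rw [η_app]
  exact isIso_res M _ ((le_inf h le_rfl).trans_eq (im_eq W O).symm)

theorem J_map_app_isIso (W : X.Opens) {M N : X.Modules} (φ : M ⟶ N) (O : X.Opens) (h : IsIso (φ.app (im W O))) :
    IsIso (((J W).map φ).app O) := h

/-- Restriction maps of `j_* (M|_W)` are those of `M`. -/
theorem J_res_isIso (W : X.Opens) (M : X.Modules) {a b : X.Opens} (h : a ≤ b)
    (h' : ∀ h'' : im W a ≤ im W b, IsIso (M.presheaf.map (homOfLE h'').op)) :
    IsIso (((J W).obj M).presheaf.map (homOfLE h).op) :=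
  h' (W.ι.image_mono (W.ι.preimage_mono h))

/-- `j_*` of two restrictions is `j_*` of the restriction to the intersection. -/
theorem nonempty_JJ_iso (U V : X.Opens) : Nonempty (J U ⋙ J V ≅ J (V ⊓ U)) := by
  let a : J U ⋙ J V ⟶ J U ⋙ J V ⋙ J (V ⊓ U) := Functor.whiskerLeft (J U ⋙ J V) (η (V ⊓ U))
  let b : J (V ⊓ U) ⟶ J U ⋙ J V ⋙ J (V ⊓ U) :=
    Functor.whiskerRight (η U ≫ Functor.whiskerLeft (J U) (η V)) (J (V ⊓ U))
  have ha : ∀ M, IsIso (a.app M) := fun M => Scheme.Modules.Hom.isIso_iff_isIso_app.2 fun O => by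
    rw [show (a.app M).app O = ((η (V ⊓ U)).app ((J V).obj ((J U).obj M))).app O from rfl, η_app]
    refine J_res_isIso V ((J U).obj M) _ (fun h => J_res_isIso U M h (fun h' => isIso_res M h' ?_))
    simp only [im_eq]
    exact le_inf inf_le_left (le_inf (inf_le_right.trans inf_le_left)
      (le_inf (le_inf (inf_le_right.trans inf_le_left) inf_le_left) (inf_le_right.trans inf_le_right)))
  have hb : ∀ M, IsIso (b.app M) := fun M => Scheme.Modules.Hom.isIso_iff_isIso_app.2 fun O => by
    have h1 : im (V ⊓ U) O ≤ U := by rw [im_eq]; exact inf_le_left.trans inf_le_right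
    have h2 : im (V ⊓ U) O ≤ V := by rw [im_eq]; exact inf_le_left.trans inf_le_left
    haveI := η_app_isIso U M h1
    haveI := η_app_isIso V ((J U).obj M) h2
    show IsIso (((η U).app M).app (im (V ⊓ U) O) ≫ ((η V).app ((J U).obj M)).app (im (V ⊓ U) O))
    infer_instance
  haveI := ha
  haveI := hb
  haveI : IsIso a := NatIso.isIso_of_isIso_app a
  haveI : IsIso b := NatIso.isIso_of_isIso_app b
  exact ⟨asIso a ≪≫ (asIso b).symm⟩

section Sheaf

/-- Surjective restriction maps of an injective module. -/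
theorem res_surjective (I : X.Modules) [Injective I] {a b : X.Opens} (h : b ≤ a) :
    Function.Surjective (I.presheaf.map (homOfLE h).op).hom :=
  res_surjective_of_injective (C := TopologicalSpace.Opens X) (R := X.ringCatSheaf) I (homOfLE h)

theorem eq_zero_of_res (M : X.Modules) {a b c : X.Opens} (hb : b ≤ a) (hc : c ≤ a) (hcov : a ≤ b ⊔ c) (x : Γ(M, a))
    (h1 : M.presheaf.map (homOfLE hb).op x = 0) (h2 : M.presheaf.map (homOfLE hc).op x = 0) : x = 0 :=
  TopCat.Sheaf.eq_of_locally_eq₂ (⟨M.presheaf, M.isSheaf⟩ : TopCat.Sheaf Ab X) (homOfLE hb) (homOfLE hc) hcov x 0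
    (h1.trans (map_zero _).symm) (h2.trans (map_zero _).symm)

theorem exists_glue (M : X.Modules) {a b c d : X.Opens} (hb : b ≤ a) (hc : c ≤ a) (hcov : a ≤ b ⊔ c)
    (hdc : d ≤ c) (hd : b ⊓ c ≤ d) (y : Γ(M, c)) (hy : M.presheaf.map (homOfLE hdc).op y = 0) :
    ∃ x : Γ(M, a), M.presheaf.map (homOfLE hb).op x = 0 ∧ M.presheaf.map (homOfLE hc).op x = y := by
  let F : TopCat.Sheaf Ab X := ⟨M.presheaf, M.isSheaf⟩
  let cov : Bool → X.Opens := fun t => if t then c else b
  let iT : ∀ t, cov t ⟶ a := fun t => homOfLE (by cases t; exacts [hb, hc])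
  let sf : ∀ t, Γ(M, cov t) := fun t => match t with
    | true => y
    | false => 0
  have h0 : M.presheaf.map (homOfLE (inf_le_right : b ⊓ c ≤ c)).op y = 0 := by
    rw [show (homOfLE (inf_le_right : b ⊓ c ≤ c)).op = (homOfLE hdc).op ≫ (homOfLE hd).op from rfl,
      Functor.map_comp]
    exact (congrArg (M.presheaf.map (homOfLE hd).op) hy).trans (map_zero _)
  have hcompat : TopCat.Presheaf.IsCompatible F.obj cov sf := by
    intro s t
    cases s <;> cases t
    · rfl
    · exact (map_zero _).trans h0.symm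
    · refine Eq.trans ?_ (map_zero _).symm
      have h := congrArg (M.presheaf.map (homOfLE (le_inf inf_le_right inf_le_left : c ⊓ b ≤ b ⊓ c)).op) h0
      rw [map_zero, ← ConcreteCategory.comp_apply, ← Functor.map_comp] at h
      exact h
    · rfl
  obtain ⟨x, hx, -⟩ := TopCat.Sheaf.existsUnique_gluing' F cov a iT
    (hcov.trans (sup_le (le_iSup cov false) (le_iSup cov true))) sf hcompat
  exact ⟨x, hx false, hx true⟩

end Sheaf

section Kernel

variable {S : Scheme.{u}} {A B C D : S.Modules} (α : A ⟶ B) (β : C ⟶ D) (u : A ⟶ C) (v : B ⟶ D)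
  (w : α ≫ v = u ≫ β)

/-- A module map which is surjective on sections is an epimorphism. -/
theorem epi_of_app_surjective (φ : A ⟶ B) (h : ∀ O, Function.Surjective (φ.app O).hom) : Epi φ := by
  refine (CohVanish.toAbF S).epi_of_epi_map ?_
  refine CohVanish.epi_of_local_lifts _ fun U q x hx => ⟨U, le_rfl, hx, ?_⟩
  obtain ⟨t, ht⟩ := h U q
  exact ⟨t, ht.trans (ConcreteCategory.congr_hom (B.presheaf.map_id (op U)) q).symm⟩

theorem kernel_sections_exact (O : S.Opens) (x : Γ(A, O)) (hx : α.app O x = 0) :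
    ∃ k : Γ(kernel α, O), (kernel.ι α).app O k = x := by
  let F := CohVanish.toAbF S ⋙ Groth.Agent.SSExist.secAb (Opens.grothendieckTopology S) O
  exact (ShortComplex.ab_exact_iff _).1
    ((ShortComplex.exact_kernel α).map_of_mono_of_preservesKernel F inferInstance inferInstance) x hx

/-- The map of kernels is bijective as soon as it is so on sections. -/
theorem isIso_kernel_map
    (h1 : ∀ O (x : Γ(A, O)), α.app O x = 0 → u.app O x = 0 → x = 0)
    (h2 : ∀ O (y : Γ(C, O)), β.app O y = 0 → ∃ x, α.app O x = 0 ∧ u.app O x = y) :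
    IsIso (kernel.map α β u v w) := by
  rw [Scheme.Modules.Hom.isIso_iff_isIso_app]
  intro O
  have hι : ∀ {P Q : S.Modules} (φ : P ⟶ Q), Function.Injective ((kernel.ι φ).app O).hom :=
    fun φ => (QCohLib.mono_iff_app_injective _).1 inferInstance O
  have hc : ∀ k : Γ(kernel α, O), (kernel.ι β).app O ((kernel.map α β u v w).app O k) =
      u.app O ((kernel.ι α).app O k) := fun k =>
    congr(($(kernel.lift_ι β (kernel.ι α ≫ u) _)).app O k)
  rw [ConcreteCategory.isIso_iff_bijective]
  refine ⟨(injective_iff_map_eq_zero _).2 fun k hk => hι α ?_, fun z => ?_⟩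
  · rw [map_zero]
    refine h1 O _ ?_ ((hc k).symm.trans ((congrArg _ hk).trans (map_zero _)))
    exact congr(($(kernel.condition α)).app O k)
  · obtain ⟨x, hx0, hx⟩ := h2 O ((kernel.ι β).app O z) congr(($(kernel.condition β)).app O z)
    obtain ⟨k, rfl⟩ := kernel_sections_exact α O x hx0
    exact ⟨k, hι β ((hc k).trans hx)⟩

end Kernel

end Groth.Agent.HigherDirect
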