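import Groth.Agent.HigherDirect.KerCx
import Groth.Agent.HigherDirect.OpenRestr
import Groth.Agent.HigherDirect.Base
import Groth.Agent.SSExist.Hyper
import Groth.Agent.KerDerived.PostComp

/-!
# Higher direct images of quasi-coherent modules along qcqs morphisms are quasi-coherent
-/

set_option autoImplicit false
set_option linter.style.haveILetI false
set_option backward.isDefEq.respectTransparency false
set_option backward.isDefEq.respectTransparency.types false
universe u

open CategoryTheory CategoryTheory.Limits AlgebraicGeometry Opposite TopologicalSpace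

namespace Groth.Agent.HigherDirect

variable {X S : Scheme.{u}} (f : X ⟶ S)

/-- Quasi-coherence of the derived functors of `M ↦ f_* j_* (M|_W)`. -/
def QC [HasInjectiveResolutions X.Modules] (W : X.Opens) : Prop :=
  ∀ M : X.Modules, M.IsQuasicoherent → ∀ q : ℕ,
    (((J W ⋙ Scheme.Modules.pushforward f).rightDerived q).obj M).IsQuasicoherent

variable [HasInjectiveResolutions X.Modules]

theorem qcoh_homology (N : X.Modules ⥤ S.Modules) [N.Additive] {M : X.Modules} (R : InjectiveResolution M)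
    (h : ∀ q : ℕ, ((N.rightDerived q).obj M).IsQuasicoherent) (n : ℤ) :
    (((N.mapHomologicalComplex (ComplexShape.up ℤ)).obj R.cochainComplex).homology n).IsQuasicoherent := by
  by_cases hn : 0 ≤ n
  · lift n to ℕ using hn
    obtain ⟨e⟩ := SSExist.nonempty_homology_map_cochainComplex_iso N R n
    exact @QCohLib.isQuasicoherent_of_iso _ _ _ e.symm (h n)
  · let L : CochainComplex S.Modules ℤ := (N.mapHomologicalComplex (ComplexShape.up ℤ)).obj R.cochainComplex
    haveI : L.IsStrictlyGE 0 := inferInstanceAs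
      (CochainComplex.IsStrictlyGE ((N.mapHomologicalComplex (ComplexShape.up ℤ)).obj R.cochainComplex) 0)
    exact QCohLib.isQuasicoherent_of_isZero ((HomologicalComplex.exactAt_iff_isZero_homology _ _).1
      (L.exactAt_of_isGE 0 n (by omega)))

theorem isZero_homology (N : X.Modules ⥤ S.Modules) [N.Additive] {M : X.Modules} (R : InjectiveResolution M)
    (h : ∀ q : ℕ, IsZero ((N.rightDerived q).obj M)) (n : ℤ) :
    IsZero (((N.mapHomologicalComplex (ComplexShape.up ℤ)).obj R.cochainComplex).homology n) := by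
  by_cases hn : 0 ≤ n
  · lift n to ℕ using hn
    obtain ⟨e⟩ := SSExist.nonempty_homology_map_cochainComplex_iso N R n
    exact (h n).of_iso e
  · let L : CochainComplex S.Modules ℤ := (N.mapHomologicalComplex (ComplexShape.up ℤ)).obj R.cochainComplex
    haveI : L.IsStrictlyGE 0 := inferInstanceAs
      (CochainComplex.IsStrictlyGE ((N.mapHomologicalComplex (ComplexShape.up ℤ)).obj R.cochainComplex) 0)
    exact (HomologicalComplex.exactAt_iff_isZero_homology _ _).1 (L.exactAt_of_isGE 0 n (by omega))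

theorem qc_sup (U V W : X.Opens) (hW : U ⊔ V = W) (hU : QC f U) (hV : QC f V) (hUV : QC f (V ⊓ U)) : QC f W := by
  intro M hM q
  let R := injectiveResolution M
  let P := Scheme.Modules.pushforward f
  let N := J W ⋙ P
  let a : N ⟶ J U ⋙ J W ⋙ P := Functor.whiskerRight (η U) N
  let b : J V ⋙ J W ⋙ P ⟶ J U ⋙ J V ⋙ J W ⋙ P := Functor.whiskerRight (η U) (J V ⋙ N)
  let u : N ⟶ J V ⋙ J W ⋙ P := Functor.whiskerRight (η V) N
  let v : J U ⋙ J W ⋙ P ⟶ J U ⋙ J V ⋙ J W ⋙ P := Functor.whiskerLeft (J U) (Functor.whiskerRight (η V) N)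
  have hsq : ∀ I : X.Modules, a.app I ≫ v.app I = u.app I ≫ b.app I := fun I => by
    show N.map ((η U).app I) ≫ N.map ((η V).app ((J U).obj I)) = N.map ((η V).app I) ≫ N.map ((J V).map ((η U).app I))
    rw [← N.map_comp, ← N.map_comp]
    exact congrArg N.map ((η V).naturality ((η U).app I))
  let mh {A B : X.Modules ⥤ S.Modules} [A.Additive] [B.Additive] (t : A ⟶ B) :=
    (NatTrans.mapHomologicalComplex t (ComplexShape.up ℤ)).app R.cochainComplex
  obtain ⟨e⟩ := SSExist.nonempty_homology_map_cochainComplex_iso N R q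
  refine @QCohLib.isQuasicoherent_of_iso _ _ _ e ?_
  have hO : ∀ {Z : X.Opens}, Z ≤ W → Nonempty (J Z ⋙ J W ⋙ P ≅ J Z ⋙ P) := fun {Z} hZ => by
    obtain ⟨i⟩ := nonempty_JJ_iso Z W
    rw [inf_eq_right.2 hZ] at i
    exact ⟨(Functor.associator _ _ _).symm ≪≫ Functor.isoWhiskerRight i P⟩
  refine isQCoh_homology_of_square (mh a) (mh b) (mh u) (mh v) ?_ ?_ ?_ ?_ ?_ ?_ ?_ _
  · exact HomologicalComplex.hom_ext _ _ fun i => hsq _
  · intro i
    refine epi_of_app_surjective _ fun O => ?_
    exact res_surjective (R.cochainComplex.X i) (a := im W (f ⁻¹ᵁ O)) (U.ι.image_preimage_le _)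
  · intro i
    refine epi_of_app_surjective _ fun O => ?_
    exact res_surjective (R.cochainComplex.X i) (a := im V (im W (f ⁻¹ᵁ O))) (U.ι.image_preimage_le _)
  · intro i
    let I := R.cochainComplex.X i
    refine isIso_kernel_map _ _ _ _ _ (fun O x h1 h2 => ?_) (fun O y hy => ?_)
    · refine eq_zero_of_res I (a := im W (f ⁻¹ᵁ O)) (b := im U (im W (f ⁻¹ᵁ O))) (c := im V (im W (f ⁻¹ᵁ O)))
        (U.ι.image_preimage_le _) (V.ι.image_preimage_le _) ?_ x h1 h2
      simp only [im_eq]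
      rw [← inf_sup_right, hW, ← inf_assoc, inf_idem]
    · refine exists_glue I (a := im W (f ⁻¹ᵁ O)) (b := im U (im W (f ⁻¹ᵁ O))) (c := im V (im W (f ⁻¹ᵁ O)))
        (d := im U (im V (im W (f ⁻¹ᵁ O)))) (U.ι.image_preimage_le _) (V.ι.image_preimage_le _) ?_
        (U.ι.image_preimage_le _) ?_ y hy
      · simp only [im_eq]
        rw [← inf_sup_right, hW, ← inf_assoc, inf_idem]
      · simp only [im_eq]
        exact le_inf (inf_le_left.trans inf_le_left) inf_le_right
  all_goals refine qcoh_homology _ R fun n => ?_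
  · obtain ⟨i⟩ := hO (hW ▸ le_sup_left : U ≤ W)
    exact @QCohLib.isQuasicoherent_of_iso _ _ _ ((rightDerivedIso i n).app M).symm (hU M hM n)
  · obtain ⟨i⟩ := hO (hW ▸ le_sup_right : V ≤ W)
    exact @QCohLib.isQuasicoherent_of_iso _ _ _ ((rightDerivedIso i n).app M).symm (hV M hM n)
  · obtain ⟨i⟩ := nonempty_JJ_iso U V
    obtain ⟨i'⟩ := hO (hW ▸ inf_le_left.trans le_sup_right : V ⊓ U ≤ W)
    exact @QCohLib.isQuasicoherent_of_iso _ _ _ ((rightDerivedIso
      ((Functor.associator _ _ _).symm ≪≫ Functor.isoWhiskerRight i (J W ⋙ P) ≪≫ i') n).app M).symm (hUV M hM n)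

/-- If the derived functors on `V` and `V ⊓ U` vanish at `M`, those on `U ⊔ V` and `U` agree at `M`. -/
theorem nonempty_iso_of_isZero (U V W : X.Opens) (hW : U ⊔ V = W) (M : X.Modules) (q : ℕ)
    (hV : ∀ n, IsZero (((J V ⋙ Scheme.Modules.pushforward f).rightDerived n).obj M))
    (hUV : ∀ n, IsZero (((J (V ⊓ U) ⋙ Scheme.Modules.pushforward f).rightDerived n).obj M)) :
    Nonempty (((J W ⋙ Scheme.Modules.pushforward f).rightDerived q).obj M ≅
      ((J U ⋙ Scheme.Modules.pushforward f).rightDerived q).obj M) := by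
  let R := injectiveResolution M
  let P := Scheme.Modules.pushforward f
  let N := J W ⋙ P
  let a : N ⟶ J U ⋙ J W ⋙ P := Functor.whiskerRight (η U) N
  let b : J V ⋙ J W ⋙ P ⟶ J U ⋙ J V ⋙ J W ⋙ P := Functor.whiskerRight (η U) (J V ⋙ N)
  let u : N ⟶ J V ⋙ J W ⋙ P := Functor.whiskerRight (η V) N
  let v : J U ⋙ J W ⋙ P ⟶ J U ⋙ J V ⋙ J W ⋙ P := Functor.whiskerLeft (J U) (Functor.whiskerRight (η V) N)
  have hsq : ∀ I : X.Modules, a.app I ≫ v.app I = u.app I ≫ b.app I := fun I => by
    show N.map ((η U).app I) ≫ N.map ((η V).app ((J U).obj I)) = N.map ((η V).app I) ≫ N.map ((J V).map ((η U).app I))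
    rw [← N.map_comp, ← N.map_comp]
    exact congrArg N.map ((η V).naturality ((η U).app I))
  let mh {A B : X.Modules ⥤ S.Modules} [A.Additive] [B.Additive] (t : A ⟶ B) :=
    (NatTrans.mapHomologicalComplex t (ComplexShape.up ℤ)).app R.cochainComplex
  obtain ⟨e⟩ := SSExist.nonempty_homology_map_cochainComplex_iso N R q
  obtain ⟨eU⟩ := SSExist.nonempty_homology_map_cochainComplex_iso (J U ⋙ J W ⋙ P) R q
  have hO : ∀ {Z : X.Opens}, Z ≤ W → Nonempty (J Z ⋙ J W ⋙ P ≅ J Z ⋙ P) := fun {Z} hZ => by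
    obtain ⟨i⟩ := nonempty_JJ_iso Z W
    rw [inf_eq_right.2 hZ] at i
    exact ⟨(Functor.associator _ _ _).symm ≪≫ Functor.isoWhiskerRight i P⟩
  obtain ⟨i⟩ := hO (hW ▸ le_sup_left : U ≤ W)
  suffices IsIso (HomologicalComplex.homologyMap (mh a) (q : ℤ)) from
    ⟨e.symm ≪≫ @asIso _ _ _ _ (HomologicalComplex.homologyMap (mh a) (q : ℤ)) this ≪≫ eU ≪≫ (rightDerivedIso i q).app M⟩
  refine isIso_homologyMap_of_square (mh a) (mh b) (mh u) (mh v) ?_ ?_ ?_ ?_ ?_ ?_ _
  · exact HomologicalComplex.hom_ext _ _ fun i => hsq _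
  · intro i
    refine epi_of_app_surjective _ fun O => ?_
    exact res_surjective (R.cochainComplex.X i) (a := im W (f ⁻¹ᵁ O)) (U.ι.image_preimage_le _)
  · intro i
    refine epi_of_app_surjective _ fun O => ?_
    exact res_surjective (R.cochainComplex.X i) (a := im V (im W (f ⁻¹ᵁ O))) (U.ι.image_preimage_le _)
  · intro i
    let I := R.cochainComplex.X i
    refine isIso_kernel_map _ _ _ _ _ (fun O x h1 h2 => ?_) (fun O y hy => ?_)
    · refine eq_zero_of_res I (a := im W (f ⁻¹ᵁ O)) (b := im U (im W (f ⁻¹ᵁ O))) (c := im V (im W (f ⁻¹ᵁ O)))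
        (U.ι.image_preimage_le _) (V.ι.image_preimage_le _) ?_ x h1 h2
      simp only [im_eq]
      rw [← inf_sup_right, hW, ← inf_assoc, inf_idem]
    · refine exists_glue I (a := im W (f ⁻¹ᵁ O)) (b := im U (im W (f ⁻¹ᵁ O))) (c := im V (im W (f ⁻¹ᵁ O)))
        (d := im U (im V (im W (f ⁻¹ᵁ O)))) (U.ι.image_preimage_le _) (V.ι.image_preimage_le _) ?_
        (U.ι.image_preimage_le _) ?_ y hy
      · simp only [im_eq]
        rw [← inf_sup_right, hW, ← inf_assoc, inf_idem]
      · simp only [im_eq]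
        exact le_inf (inf_le_left.trans inf_le_left) inf_le_right
  all_goals refine fun m => isZero_homology _ R (fun n => ?_) m
  · obtain ⟨i⟩ := hO (hW ▸ le_sup_right : V ≤ W)
    exact (hV n).of_iso ((rightDerivedIso i n).app M)
  · obtain ⟨i⟩ := nonempty_JJ_iso U V
    obtain ⟨i'⟩ := hO (hW ▸ inf_le_left.trans le_sup_right : V ⊓ U ≤ W)
    exact (hUV n).of_iso ((rightDerivedIso
      ((Functor.associator _ _ _).symm ≪≫ Functor.isoWhiskerRight i (J W ⋙ P) ≪≫ i') n).app M)

/-- The derived functors of `M ↦ f_* j_* (M|_W)` are higher direct images along `j ≫ f`. -/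
theorem nonempty_J_rightDerived_iso (W : X.Opens) [HasInjectiveResolutions W.toScheme.Modules] (q : ℕ) :
    Nonempty ((J W ⋙ Scheme.Modules.pushforward f).rightDerived q ≅
      Scheme.Modules.restrictFunctor W.ι ⋙ Coh.Rpush (W.ι ≫ f) q) := by
  haveI := enoughInjectives_modules X
  haveI := enoughInjectives_modules W.toScheme
  haveI := preservesFiniteLimits_pushforward (W.ι ≫ f)
  haveI : PreservesFiniteColimits (Scheme.Modules.restrictFunctor W.ι) := by
    haveI := (Scheme.Modules.restrictAdjunction W.ι).leftAdjoint_preservesColimits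
    infer_instance
  let i : J W ⋙ Scheme.Modules.pushforward f ≅
      Scheme.Modules.restrictFunctor W.ι ⋙ Scheme.Modules.pushforward (W.ι ≫ f) :=
    Functor.associator _ _ _ ≪≫ Functor.isoWhiskerLeft _ (Scheme.Modules.pushforwardComp W.ι f)
  obtain ⟨e⟩ := KerDerived.nonempty_comp_iso (Scheme.Modules.restrictFunctor W.ι)
    (Scheme.Modules.pushforward (W.ι ≫ f)) (fun I _ m => by
      refine isZero_rpush_of_isZero_rpushAb (W.ι ≫ f) ((Scheme.Modules.restrictFunctor W.ι).obj I) (m + 1) ?_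
      haveI := isFlasque_toAb_of_injective I
      haveI : TopCat.Sheaf.IsFlasque (Coh.toAb ((Scheme.Modules.restrictFunctor W.ι).obj I)) :=
        CohVanish.isFlasque_restrictSh (Y := CohVanish.sp X) W.ι.isOpenEmbedding (Coh.toAb I)
      exact KerDerived.isZero_Rpush_of_flasque (X := CohVanish.sp W.toScheme) (Y := CohVanish.sp S) (W.ι ≫ f).base m
        (Coh.toAb ((Scheme.Modules.restrictFunctor W.ι).obj I))) q
  exact ⟨rightDerivedIso i q ≪≫ e⟩

theorem qc_affine [IsAffine S] {W : X.Opens} (hW : IsAffineOpen W) : QC f W := by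
  intro M hM q
  haveI := hasInjectiveResolutions_modules W.toScheme
  haveI : IsAffine W.toScheme := hW
  haveI : IsAffineHom (W.ι ≫ f) := isAffineHom_of_isAffine _
  haveI := hM
  obtain ⟨e⟩ := nonempty_J_rightDerived_iso f W q
  refine @QCohLib.isQuasicoherent_of_iso _ _ _ (e.app M).symm ?_
  cases q with
  | zero =>
    haveI := preservesFiniteLimits_pushforward (W.ι ≫ f)
    haveI := QCohLib.isQuasicoherent_pushforward (M := M.restrict W.ι) (W.ι ≫ f)
    exact QCohLib.isQuasicoherent_of_iso ((Scheme.Modules.pushforward (W.ι ≫ f)).rightDerivedZeroIsoSelf.app (M.restrict W.ι)).symm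
  | succ q =>
    exact QCohLib.isQuasicoherent_of_isZero
      (isZero_rpush_of_isZero_rpushAb (W.ι ≫ f) (M.restrict W.ι) (q + 1) (isZero_rpushAb_of_isAffineHom (W.ι ≫ f) (M.restrict W.ι) q))

theorem qc_iSup (P : X.Opens → Prop) (hP : ∀ V, P V → QC f V) (hd : ∀ V W, P V → P W → P (V ⊓ W))
    (hbot : QC f ⊥) : ∀ (k : ℕ) (U : Fin k → X.Opens), (∀ i, P (U i)) → QC f (⨆ i, U i) := by
  intro k
  induction k with
  | zero => intro U _; rw [iSup_of_empty]; exact hbot
  | succ k ih =>
    intro U hU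
    refine qc_sup f (⨆ i : Fin k, U i.castSucc) (U (Fin.last k)) _ ?_ (ih _ fun i => hU _) (hP _ (hU _)) ?_
    · refine le_antisymm (sup_le (iSup_le fun i => le_iSup U _) (le_iSup U _)) (iSup_le fun i => ?_)
      induction i using Fin.lastCases with
      | last => exact le_sup_right
      | cast i => exact le_sup_of_le_left (le_iSup (fun i : Fin k => U i.castSucc) i)
    · rw [inf_iSup_eq]
      exact ih _ fun i => hd _ _ (hU _) (hU _)

theorem qc_of_le_affine [IsAffine S] {W U : X.Opens} (hW : IsAffineOpen W) (hU : IsCompact (U : Set X))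
    (hUW : U ≤ W) : QC f U := by
  classical
  have key : ∀ x : U, ∃ g : Γ(X, W), X.basicOpen g ≤ U ∧ x.1 ∈ X.basicOpen g :=
    fun x => hW.exists_basicOpen_le ⟨x, x.2⟩ (hUW x.2)
  choose g hgU hxg using key
  obtain ⟨s, hs⟩ := hU.elim_finite_subcover (fun x : U => (X.basicOpen (g x) : Set X))
    (fun x => (X.basicOpen (g x)).isOpen) fun x hx => Set.mem_iUnion.mpr ⟨⟨x, hx⟩, hxg _⟩
  have e : U = ⨆ i : Fin s.card, X.basicOpen (g (s.equivFin.symm i).1) := by
    refine le_antisymm (fun x hx => ?_) (iSup_le fun i => hgU _)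
    obtain ⟨i, hi, hxi⟩ : ∃ i ∈ s, x ∈ X.basicOpen (g i) := by simpa using hs hx
    exact Opens.mem_iSup.mpr ⟨s.equivFin ⟨i, hi⟩, by rw [Equiv.symm_apply_apply]; exact hxi⟩
  rw [e]
  refine qc_iSup f (fun V => ∃ a : Γ(X, W), V = X.basicOpen a) ?_ ?_ (qc_affine f (isAffineOpen_bot X)) _ _ fun i => ⟨_, rfl⟩
  · rintro _ ⟨a, rfl⟩; exact qc_affine f (hW.basicOpen a)
  · rintro _ _ ⟨a, rfl⟩ ⟨a', rfl⟩; exact ⟨a * a', (X.basicOpen_mul a a').symm⟩

theorem qc_of_isCompact [IsAffine S] [QuasiSeparatedSpace X] (U : X.Opens) (hU : IsCompact (U : Set X)) : QC f U := by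
  refine compact_open_induction_on (P := fun U : X.Opens => QC f U) U hU (qc_affine f (isAffineOpen_bot X)) ?_
  intro T hT V ih
  refine qc_sup f T V.1 _ rfl ih (qc_affine f V.2) (qc_of_le_affine f V.2 ?_ inf_le_left)
  exact QuasiSeparatedSpace.inter_isCompact _ _ V.1.isOpen V.2.isCompact T.isOpen hT

theorem isQuasicoherent_rpush_of_isAffine [IsAffine S] [QuasiCompact f] [QuasiSeparated f] (M : X.Modules)
    [M.IsQuasicoherent] (q : ℕ) : ((Coh.Rpush f q).obj M).IsQuasicoherent := by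
  haveI := quasiSeparatedSpace_of_quasiSeparated f
  haveI := QuasiCompact.compactSpace_of_compactSpace f
  have h := qc_of_isCompact f (⊤ : X.Opens) isCompact_univ M ‹_› q
  haveI : ∀ N : X.Modules, IsIso ((η (⊤ : X.Opens)).app N) := fun N =>
    Scheme.Modules.Hom.isIso_iff_isIso_app.2 fun O => η_app_isIso _ N le_top
  haveI : IsIso (η (⊤ : X.Opens)) := NatIso.isIso_of_isIso_app _
  exact @QCohLib.isQuasicoherent_of_iso _ _ _ ((rightDerivedIso
    ((Functor.leftUnitor _).symm ≪≫ Functor.isoWhiskerRight (asIso (η (⊤ : X.Opens))) (Scheme.Modules.pushforward f)) q).app M).symm h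

end Groth.Agent.HigherDirect
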