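import Groth.Agent.HigherDirect.FiniteSec

/-!
# Global sections of higher direct images on an affine base, linearly
-/

set_option autoImplicit false
set_option linter.style.haveILetI false
set_option backward.isDefEq.respectTransparency false
set_option backward.isDefEq.respectTransparency.types false
universe u

open CategoryTheory CategoryTheory.Limits AlgebraicGeometry Opposite TopologicalSpace Abelian

namespace Groth.Agent.HigherDirect

open Groth.Agent.CohVanish Groth.Agent.CohFinite Groth.Agent.CechCmp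

variable {X S : Scheme.{u}} (f : X ⟶ S)

theorem exists_lift_sections {T : TopCat.{u}} {C : ShortComplex (AbSh T)} (hC : C.ShortExact) (U : Opens T)
    (z : C.X₂.obj.obj (op U)) (hz : C.g.hom.app (op U) z = 0) : ∃ w, C.f.hom.app (op U) w = z := by
  obtain ⟨y, hy⟩ := (eMap_g_eq_zero_iff hC U 0 ((eu0 U C.X₂).symm z)).1 (by
    apply (eu0 U C.X₃).injective
    rw [eu0_eMap, AddEquiv.apply_symm_apply, hz, map_zero])
  exact ⟨eu0 U C.X₁ y, by rw [← eu0_eMap, hy, AddEquiv.apply_symm_apply]⟩

variable [HasInjectiveResolutions X.Modules] [EnoughInjectives X.Modules]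

/-- The map onto the first higher direct image, from the embedding into an injective. -/
noncomputable def toR1 (M : X.Modules) :
    (Scheme.Modules.pushforward f).obj (KerDerived.emb M).X₃ ⟶ (Coh.Rpush f 1).obj M :=
  haveI := enoughInjectives_modules X
  haveI := preservesFiniteLimits_pushforward f
  (Scheme.Modules.pushforward f).rightDerivedZeroIsoSelf.inv.app (KerDerived.emb M).X₃ ≫
    KerDerived.dl (Scheme.Modules.pushforward f) 0 M

theorem toR1_spec (M : X.Modules) : Epi (toR1 f M) ∧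
    ∃ h : (Scheme.Modules.pushforward f).map (KerDerived.emb M).g ≫ toR1 f M = 0,
      (ShortComplex.mk (kernel.ι (toR1 f M)) (toR1 f M) (kernel.condition _)).ShortExact ∧
      ∃ h' : (Scheme.Modules.pushforward f).map (KerDerived.emb M).f ≫ kernel.lift (toR1 f M) _ h = 0,
        (ShortComplex.mk _ _ h').ShortExact := by
  haveI := enoughInjectives_modules X
  haveI := preservesFiniteLimits_pushforward f
  let P := Scheme.Modules.pushforward f
  let E := KerDerived.emb M
  let p := toR1 f M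
  have h0 : P.map E.g ≫ p = 0 := (KerDerived.dl_desc_iff₀ P M p).1 ⟨𝟙 _, Category.comp_id _⟩
  haveI : Epi p := epi_comp _ _
  let b : P.obj E.X₂ ⟶ kernel p := kernel.lift p _ h0
  haveI : Epi b := (ShortComplex.exact_iff_epi_kernel_lift (ShortComplex.mk (P.map E.g) p h0)).1
    (ShortComplex.exact_of_g_is_cokernel _ (CokernelCofork.IsColimit.ofπ p h0
      (fun k hk => ((KerDerived.dl_desc_iff₀ P M k).2 hk).choose)
      (fun k hk => ((KerDerived.dl_desc_iff₀ P M k).2 hk).choose_spec)
      (fun k hk m hm => (cancel_epi p).1 (hm.trans ((KerDerived.dl_desc_iff₀ P M k).2 hk).choose_spec.symm))))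
  have hb0 : P.map E.f ≫ b = 0 := by
    refine (cancel_mono (kernel.ι p)).1 ?_
    rw [Category.assoc, kernel.lift_ι, ← P.map_comp, E.zero, P.map_zero, zero_comp]
  refine ⟨‹_›, h0, { exact := ShortComplex.exact_kernel p }, hb0, ?_⟩
  let S2 := ShortComplex.mk (P.map E.f) b hb0
  haveI := (KerDerived.emb_shortExact M).mono_f
  refine { exact := ?_, mono_f := P.map_mono E.f, epi_g := inferInstanceAs (Epi b) }
  let φ : S2 ⟶ E.map P :=
    { τ₁ := 𝟙 _, τ₂ := 𝟙 _, τ₃ := kernel.ι p
      comm₁₂ := (Category.id_comp _).trans (Category.comp_id _).symm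
      comm₂₃ := (Category.id_comp _).trans (kernel.lift_ι p _ h0).symm }
  haveI : IsIso φ.τ₂ := inferInstanceAs (IsIso (𝟙 _))
  haveI : Epi φ.τ₁ := inferInstanceAs (Epi (𝟙 _))
  haveI : Mono φ.τ₃ := inferInstanceAs (Mono (kernel.ι p))
  exact (ShortComplex.exact_iff_of_epi_of_isIso_of_mono φ).2
    ((KerDerived.emb_shortExact M).exact.map_of_mono_of_preservesKernel P (KerDerived.emb_shortExact M).mono_f inferInstance)

variable [IsAffine S]

theorem acyc_next (M : X.Modules) (hM : Acyc f M) : Acyc f (KerDerived.emb M).X₃ := by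
  haveI := enoughInjectives_modules X
  haveI := preservesFiniteLimits_pushforward f
  refine ⟨fun m => ?_, fun r => @QCohLib.isQuasicoherent_of_iso _ _ _
    (asIso (KerDerived.dl (Scheme.Modules.pushforward f) (r + 1) M)).symm (hM.2 (r + 1))⟩
  obtain ⟨-, h, hS1, h', hS2⟩ := toR1_spec f M
  let S1 := ShortComplex.mk (kernel.ι (toR1 f M)) (toR1 f M) (kernel.condition _)
  let S2 := ShortComplex.mk _ _ h'
  haveI : TopCat.Sheaf.IsFlasque (Coh.toAb (KerDerived.emb M).X₂) := isFlasque_toAb_of_injective _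
  haveI : TopCat.Sheaf.IsFlasque (S2.map (toAbF S)).X₂ :=
    TopCat.Sheaf.IsFlasque.pushforward_isFlasque (Coh.toAb (KerDerived.emb M).X₂) f.base
  haveI : Subsingleton (EU (X := sp S) (S2.map (toAbF S)).X₂ ⊤ (m + 1)) := subsingleton_of_flasque _ _ _
  haveI : Subsingleton (EU (X := sp S) (S2.map (toAbF S)).X₁ ⊤ (m + 1 + 1)) := hM.1 (m + 1)
  haveI : Subsingleton (EU (X := sp S) (S1.map (toAbF S)).X₁ ⊤ (m + 1)) :=
    (eDelta_injective (shortExact_toAb hS2) (⊤ : S.Opens) (m + 1)).subsingleton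
  haveI : Subsingleton (EU (X := sp S) (S1.map (toAbF S)).X₃ ⊤ (m + 1)) := subsingleton_of_isQuasicoherent (hM.2 0) m
  refine subsingleton_of_forall_eq 0 fun x => ?_
  obtain ⟨y, hy⟩ := (eMap_g_eq_zero_iff (shortExact_toAb hS1) (⊤ : S.Opens) (m + 1) x).1 (Subsingleton.elim _ _)
  rw [← hy, Subsingleton.elim y 0, map_zero]

theorem nonempty_sections_rpush_equiv_aux : ∀ (q : ℕ) (M : X.Modules), Acyc f M →
    Nonempty (Γ((Coh.Rpush f (q + 1)).obj M, ⊤) ≃ₗ[Γ(S, ⊤)]
      HMod (modRSh (baseAct f) M) ((Opens.map f.base).obj ⊤) (q + 1)) := by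
  haveI := enoughInjectives_modules X
  haveI := preservesFiniteLimits_pushforward f
  intro q
  induction q with
  | zero =>
    intro M hM
    let E := KerDerived.emb M
    let U0 : X.Opens := (Opens.map f.base).obj ⊤
    obtain ⟨-, h, hS1, h', hS2⟩ := toR1_spec f M
    let S1 := ShortComplex.mk (kernel.ι (toR1 f M)) (toR1 f M) (kernel.condition _)
    let S2 := ShortComplex.mk _ _ h'
    haveI : TopCat.Sheaf.IsFlasque (Coh.toAb E.X₂) := isFlasque_toAb_of_injective E.X₂
    haveI : TopCat.Sheaf.IsFlasque (S2.map (toAbF S)).X₂ :=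
      TopCat.Sheaf.IsFlasque.pushforward_isFlasque (Coh.toAb E.X₂) f.base
    haveI : Subsingleton (EU (X := sp S) (S2.map (toAbF S)).X₂ ⊤ (0 + 1)) := subsingleton_of_flasque _ _ _
    haveI : Subsingleton (EU (X := sp S) (S2.map (toAbF S)).X₁ ⊤ 1) := hM.1 0
    haveI : Subsingleton (EU (X := sp S) (S2.map (toAbF S)).X₁ ⊤ (0 + 1 + 1)) := hM.1 1
    haveI : Subsingleton (EU (X := sp S) (S1.map (toAbF S)).X₁ ⊤ 1) :=
      (eDelta_injective (shortExact_toAb hS2) (⊤ : S.Opens) 1).subsingleton
    let ψ : Γ((Scheme.Modules.pushforward f).obj E.X₃, ⊤) →ₗ[Γ(S, ⊤)] HMod (modRSh (baseAct f) M) U0 1 :=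
      ((modSES (baseAct f) E (KerDerived.emb_shortExact M)).delta U0 0).comp (h0Lin f E.X₃).toLinearMap
    let π : Γ((Scheme.Modules.pushforward f).obj E.X₃, ⊤) →ₗ[Γ(S, ⊤)] Γ((Coh.Rpush f 1).obj M, ⊤) :=
      appLin (toR1 f M) ⊤
    have hπ : Function.Surjective π := surjective_app_of_subsingleton (shortExact_toAb hS1) (⊤ : S.Opens)
    have hb : Function.Surjective ((kernel.lift (toR1 f M) _ h).app ⊤) :=
      surjective_app_of_subsingleton (shortExact_toAb hS2) (⊤ : S.Opens)
    haveI : Subsingleton (EU (X := sp X) (E.map (toAbF X)).X₂ U0 (0 + 1)) :=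
      subsingleton_of_flasque (Coh.toAb E.X₂) _ _
    have hψ : Function.Surjective ψ :=
      (eDelta_surjective (shortExact_toAb (KerDerived.emb_shortExact M)) U0 0).comp (h0Lin f E.X₃).surjective
    have hker : LinearMap.ker π = LinearMap.ker ψ := by
      refine le_antisymm (fun z hz => ?_) (fun z hz => ?_)
      · obtain ⟨w, hw⟩ := exists_lift_sections (shortExact_toAb hS1) (⊤ : S.Opens) z hz
        obtain ⟨t, ht⟩ := hb w
        refine (eDelta_zero_eq_zero (shortExact_toAb (KerDerived.emb_shortExact M)) U0 _).2 ⟨t, ?_⟩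
        refine Eq.trans ?_ ((h0Lin f E.X₃).symm_apply_apply z).symm
        refine Eq.trans ?_ hw
        rw [← ht]
        exact congr(($(kernel.lift_ι (toR1 f M) _ h)).app ⊤ t).symm
      · obtain ⟨t, ht⟩ := (eDelta_zero_eq_zero (shortExact_toAb (KerDerived.emb_shortExact M)) U0 _).1 hz
        have ht' : ((Scheme.Modules.pushforward f).map E.g).app ⊤ t = z := ht.trans ((h0Lin f E.X₃).symm_apply_apply z)
        rw [LinearMap.mem_ker, ← ht']
        exact congr(($h).app ⊤ t)
    exact ⟨(π.quotKerEquivOfSurjective hπ).symm ≪≫ₗ Submodule.quotEquivOfEq _ _ hker ≪≫ₗ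
      ψ.quotKerEquivOfSurjective hψ⟩
  | succ q ih =>
    intro M hM
    let E := KerDerived.emb M
    let U0 : X.Opens := (Opens.map f.base).obj ⊤
    haveI : TopCat.Sheaf.IsFlasque (Coh.toAb E.X₂) := isFlasque_toAb_of_injective E.X₂
    haveI : ∀ n, Subsingleton (EU (X := sp X) (E.map (toAbF X)).X₂ U0 (n + 1)) :=
      fun n => subsingleton_of_flasque (Coh.toAb E.X₂) _ _
    let E' := modSES (baseAct f) E (KerDerived.emb_shortExact M)
    let δ := LinearEquiv.ofBijective (E'.delta U0 (q + 1))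
      ⟨eDelta_injective (shortExact_toAb (KerDerived.emb_shortExact M)) U0 (q + 1),
        eDelta_surjective (shortExact_toAb (KerDerived.emb_shortExact M)) U0 (q + 1)⟩
    obtain ⟨e⟩ := ih E.X₃ (acyc_next f M hM)
    let d := LinearEquiv.ofBijective (appLin (KerDerived.dl (Scheme.Modules.pushforward f) (q + 1) M) ⊤)
      (ConcreteCategory.bijective_of_isIso ((KerDerived.dl (Scheme.Modules.pushforward f) (q + 1) M).app ⊤))
    exact ⟨d.symm ≪≫ₗ e ≪≫ₗ δ⟩

omit [EnoughInjectives X.Modules] in
/-- Global sections of the higher direct images, linearly. -/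
theorem nonempty_sections_rpush_equiv [QuasiCompact f] [QuasiSeparated f] (M : X.Modules)
    [M.IsQuasicoherent] (q : ℕ) :
    Nonempty (Γ((Coh.Rpush f q).obj M, ⊤) ≃ₗ[Γ(S, ⊤)]
      HMod (modRSh (baseAct f) M) ((Opens.map f.base).obj ⊤) q) := by
  haveI := enoughInjectives_modules X
  haveI := preservesFiniteLimits_pushforward f
  cases q with
  | zero =>
    let i := (Scheme.Modules.pushforward f).rightDerivedZeroIsoSelf.inv.app M
    exact ⟨(LinearEquiv.ofBijective (appLin i ⊤) (ConcreteCategory.bijective_of_isIso (i.app ⊤))).symm ≪≫ₗ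
      h0Lin f M⟩
  | succ q =>
    refine nonempty_sections_rpush_equiv_aux f q M ⟨fun m => ?_, fun r => isQuasicoherent_rpush f M (r + 1)⟩
    haveI := QCohLib.isQuasicoherent_pushforward (M := M) f
    exact subsingleton_EU_of_isAffineOpen _ (isAffineOpen_top S) m

end Groth.Agent.HigherDirect
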